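import Cfsg.Agent.Lib.U62Three.Local.Sign

/-!
The configuration at the central element: the elementary abelian subgroup of order 81 with axes in the two factors,
its centraliser and the centraliser of the central element and of the involution.
-/

set_option autoImplicit false
set_option linter.style.haveILetI false

namespace Cfsg.Agent.U62Three

open Co2Three (V4)

/-- The configuration, from the point and the centraliser of its part of the core. -/
theorem exists_loc_of {G : Type*} [Group G] [Finite G] (S : Setup G) (hP : Pt S.Q S.z) (hK : CentHyp S) :
    ∃ L : Loc G, L.S = S := by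
  obtain ⟨el, A, ht, ht'⟩ := S.exists_axes hP
  exact ⟨{
    S := S
    el := el
    z_eq := A.z_eq
    jd := A.jd
    e1_mem := A.e1_mem
    e2_mem := A.e2_mem
    norm_iso := A.norm_iso
    t_act := ht
    t'_act := ht'
    K := centK el
    mem_K := fun _ => mem_centK
    K_comm := ⟨⟨fun a b => Subtype.ext (A.K_comm hK a.2 b.2).eq⟩⟩
    K_exp := fun _ hx => A.K_exp hK hx
    K_card := A.K_card hK
    K_Q := fun _ hx hq => let ⟨v, _, e⟩ := A.K_Q hx hq; ⟨v, e⟩
    K_unique := A.K_unique hK
    K_fusion := A.K_fusion hK
    sign := A.sign hK ht
    centT := A.centT hK ht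
    P_move := A.P_move ht }, rfl⟩

end Cfsg.Agent.U62Three
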