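import Cfsg.Agent.Lib.U62Three.Local.Factor
import Mathlib.LinearAlgebra.Matrix.SpecialLinearGroup
import Mathlib.GroupTheory.Sylow

/-!
The action of the stabiliser of a factor of the core on it modulo the centre, as a homomorphism to the special
linear group of dimension two over three elements.
-/

set_option autoImplicit false
set_option linter.style.haveILetI false

namespace Cfsg.Agent.U62Three.Local

open Subgroup
open scoped commutatorElement MatrixGroups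
open Co2Three (Core pw pw_zero pw_one pw_add pw_neg pw_mem IsPoint)

variable {G : Type*} [Group G] {Q : Subgroup G} {z : G}

open Classical in
/-- The exponent of a commutator. -/
noncomputable def lam (z a b : G) : ZMod 3 := if h : ∃ k : ZMod 3, pw z k = ⁅a, b⁆ then h.choose else 0

theorem z_cube (C : Core Q z) : z ^ 3 = 1 := by rw [← C.ord]; exact pow_orderOf_eq_one z

theorem exists_pw (C : Core Q z) {x : G} (hx : x ∈ zpowers z) : ∃ k : ZMod 3, pw z k = x := by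
  obtain ⟨m, rfl⟩ := mem_zpowers_iff.1 hx
  refine ⟨(m : ZMod 3), ?_⟩
  have hv : (((m : ZMod 3).val : ℕ) : ℤ) = m % 3 := by exact_mod_cast ZMod.val_intCast m
  rw [pw, ← zpow_natCast, hv]
  exact (zpow_eq_zpow_emod' m (z_cube C)).symm

theorem pw_inj (C : Core Q z) {i j : ZMod 3} (h : pw z i = pw z j) : i = j :=
  ZMod.val_injective 3 (pow_injOn_Iio_orderOf (by rw [Set.mem_Iio, C.ord]; exact i.val_lt)
    (by rw [Set.mem_Iio, C.ord]; exact j.val_lt) h)

theorem lam_spec (C : Core Q z) {a b : G} (ha : a ∈ Q) (hb : b ∈ Q) : pw z (lam z a b) = ⁅a, b⁆ := by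
  have h : ∃ k : ZMod 3, pw z k = ⁅a, b⁆ := exists_pw C (C.comm a ha b hb)
  rw [lam, dif_pos h]
  exact h.choose_spec

theorem lam_eq (C : Core Q z) {a b : G} (ha : a ∈ Q) (hb : b ∈ Q) {k : ZMod 3} (h : pw z k = ⁅a, b⁆) :
    lam z a b = k := pw_inj C ((lam_spec C ha hb).trans h.symm)

theorem lam_skew (C : Core Q z) {a b : G} (ha : a ∈ Q) (hb : b ∈ Q) : lam z b a = -lam z a b :=
  lam_eq C hb ha (by rw [pw_neg (z_cube C), lam_spec C ha hb, commutatorElement_inv])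

theorem lam_mul_left (C : Core Q z) {a c b : G} (ha : a ∈ Q) (hc : c ∈ Q) (hb : b ∈ Q) :
    lam z (a * c) b = lam z a b + lam z c b := by
  refine lam_eq C (mul_mem ha hc) hb ?_
  rw [pw_add (z_cube C), lam_spec C ha hb, lam_spec C hc hb]
  have h : Commute ⁅c, b⁆ a := C.commute (C.comm c hc b hb) ha
  calc ⁅a, b⁆ * ⁅c, b⁆ = ⁅c, b⁆ * ⁅a, b⁆ := C.commute (C.comm a ha b hb)
        (C.zpowers_le_Q (C.comm c hc b hb))
    _ = a * ⁅c, b⁆ * a⁻¹ * ⁅a, b⁆ := by rw [← h.eq, mul_inv_cancel_right]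
    _ = ⁅a * c, b⁆ := by simp only [commutatorElement_def]; group

theorem lam_mul_right (C : Core Q z) {a c b : G} (ha : a ∈ Q) (hc : c ∈ Q) (hb : b ∈ Q) :
    lam z b (a * c) = lam z b a + lam z b c := by
  rw [lam_skew C (mul_mem ha hc) hb, lam_mul_left C ha hc hb, lam_skew C hb ha, lam_skew C hb hc]
  ring

theorem lam_one (C : Core Q z) {b : G} (hb : b ∈ Q) : lam z 1 b = 0 :=
  lam_eq C (one_mem _) hb (by rw [pw_zero, commutatorElement_one_left])

theorem lam_self (C : Core Q z) {b : G} (hb : b ∈ Q) : lam z b b = 0 :=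
  lam_eq C hb hb (by rw [pw_zero, commutatorElement_self])

theorem lam_pow (C : Core Q z) {a b : G} (ha : a ∈ Q) (hb : b ∈ Q) (n : ℕ) :
    lam z (a ^ n) b = n * lam z a b := by
  induction n with
  | zero => rw [pow_zero, lam_one C hb, Nat.cast_zero, zero_mul]
  | succ n ih => rw [pow_succ, lam_mul_left C (pow_mem ha n) ha hb, ih]; push_cast; ring

theorem lam_zero_iff (C : Core Q z) {a b : G} (ha : a ∈ Q) (hb : b ∈ Q) : lam z a b = 0 ↔ Commute a b := by
  constructor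
  · intro h
    have h' := lam_spec C ha hb
    rw [h, pw_zero] at h'
    exact commutatorElement_eq_one_iff_mul_comm.1 h'.symm
  · exact fun h => lam_eq C ha hb (by rw [pw_zero, commutatorElement_eq_one_iff_mul_comm.2 h.eq])

theorem lam_central (C : Core Q z) {c b : G} (hc : c ∈ zpowers z) (hb : b ∈ Q) : lam z c b = 0 :=
  (lam_zero_iff C (C.zpowers_le_Q hc) hb).2 (C.commute hc hb)

theorem lam_conj (C : Core Q z) {g a b : G} (hg : Commute g z) (ha : a ∈ Q) (hb : b ∈ Q)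
    (ha' : g * a * g⁻¹ ∈ Q) (hb' : g * b * g⁻¹ ∈ Q) : lam z (g * a * g⁻¹) (g * b * g⁻¹) = lam z a b := by
  refine lam_eq C ha' hb' ?_
  have e : ⁅g * a * g⁻¹, g * b * g⁻¹⁆ = g * ⁅a, b⁆ * g⁻¹ := by simp only [commutatorElement_def]; group
  rw [e, ← lam_spec C ha hb, (show Commute g (pw z (lam z a b)) from hg.pow_right _).eq, mul_inv_cancel_right]

theorem Split.symm {Q₁ Q₂ : Subgroup G} (S : Split Q z Q₁ Q₂) : Split Q z Q₂ Q₁ :=
  ⟨S.le₂, S.le₁, S.card₂, S.card₁, S.mem₂, S.mem₁, fun a ha b hb => (S.comm b hb a ha).symm,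
    (inf_comm Q₂ Q₁).le.trans S.inf, S.sup.trans (sup_comm Q₁ Q₂).le,
    fun g hg => (S.perm g hg).imp (fun h => ⟨h.2, h.1⟩) (fun h => ⟨h.2, h.1⟩), S.moves₂, S.moves₁⟩

/-- An element preserving the first factor preserves the second. -/
theorem Split.preserves_of_mem {Q₁ Q₂ : Subgroup G} (S : Split Q z Q₁ Q₂) {g q : G} (hg : Commute g z)
    (hq : q ∈ Q₁) (hqz : q ∉ zpowers z) (h : g * q * g⁻¹ ∈ Q₁) :
    (∀ x ∈ Q₁, g * x * g⁻¹ ∈ Q₁) ∧ ∀ x ∈ Q₂, g * x * g⁻¹ ∈ Q₂ := by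
  refine (S.perm g hg).resolve_right fun hs => hqz ?_
  obtain ⟨m, hm⟩ := mem_zpowers_iff.1 (S.inf ⟨h, hs.1 q hq⟩)
  refine ⟨m, ?_⟩
  calc z ^ m = g⁻¹ * z ^ m * g := by rw [(hg.inv_left.zpow_right m).eq, inv_mul_cancel_right]
    _ = q := by rw [hm]; group

/-- Two elements of a factor spanning it modulo the centre. -/
structure Plane (Q : Subgroup G) (z : G) (Q₁ : Subgroup G) (w r : G) : Prop where
  core : Core Q z
  le : Q₁ ≤ Q
  card : Nat.card Q₁ = 27
  mem : z ∈ Q₁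
  w_mem : w ∈ Q₁
  r_mem : r ∈ Q₁
  lam_wr : lam z w r = 1

theorem exists_plane {Q₁ Q₂ : Subgroup G} (C : Core Q z) (S : Split Q z Q₁ Q₂) {w : G} (hw : w ∈ Q₁)
    (hwz : w ∉ zpowers z) : ∃ r, Plane Q z Q₁ w r := by
  obtain ⟨r, hr, hne⟩ : ∃ r ∈ Q₁, lam z w r ≠ 0 := by
    by_contra hno
    push Not at hno
    refine hwz ((C.centre w (S.le₁ hw)).1 fun q hq => ?_)
    obtain ⟨a, ha, b, hb, rfl⟩ := S.exists_mul hq
    exact (((lam_zero_iff C (S.le₁ hw) (S.le₁ ha)).1 (hno a ha)).mul_right (S.comm w hw b hb)).eq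
  refine ⟨r ^ (lam z w r).val, C, S.le₁, S.card₁, S.mem₁, hw, pow_mem hr _, ?_⟩
  rw [lam_skew C (pow_mem (S.le₁ hr) _) (S.le₁ hw), lam_pow C (S.le₁ hr) (S.le₁ hw),
    lam_skew C (S.le₁ hw) (S.le₁ hr), ZMod.natCast_zmod_val, mul_neg, neg_neg]
  exact (by decide : ∀ c : ZMod 3, c ≠ 0 → c * c = 1) _ hne

namespace Plane

variable {Q₁ : Subgroup G} {w r : G}

theorem lam_pw (P : Plane Q z Q₁ w r) {a b : G} (ha : a ∈ Q) (hb : b ∈ Q) (i : ZMod 3) :
    lam z (pw a i) b = i * lam z a b := by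
  rw [pw, lam_pow P.core ha hb, ZMod.natCast_zmod_val]

theorem coords (P : Plane Q z Q₁ w r) (i j : ZMod 3) {c : G} (hc : c ∈ zpowers z) :
    lam z (pw w i * pw r j * c) r = i ∧ lam z w (pw w i * pw r j * c) = j := by
  have hw := P.le P.w_mem
  have hr := P.le P.r_mem
  have hcQ := P.core.zpowers_le_Q hc
  have h1 := pw_mem hw i
  have h2 := pw_mem hr j
  constructor
  · rw [lam_mul_left P.core (mul_mem h1 h2) hcQ hr, lam_mul_left P.core h1 h2 hr, P.lam_pw hw hr, P.lam_pw hr hr,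
      P.lam_wr, lam_self P.core hr, lam_central P.core hc hr]
    ring
  · rw [lam_skew P.core (mul_mem (mul_mem h1 h2) hcQ) hw, lam_mul_left P.core (mul_mem h1 h2) hcQ hw,
      lam_mul_left P.core h1 h2 hw, P.lam_pw hw hw, P.lam_pw hr hw, lam_self P.core hw,
      lam_skew P.core hw hr, P.lam_wr, lam_central P.core hc hw]
    ring

theorem exists_coords (P : Plane Q z Q₁ w r) {x : G} (hx : x ∈ Q₁) :
    ∃ c ∈ zpowers z, x = pw w (lam z x r) * pw r (lam z w x) * c := by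
  haveI : Finite Q₁ := Nat.finite_of_card_ne_zero (by rw [P.card]; norm_num)
  let f : ZMod 3 × ZMod 3 × ZMod 3 → Q₁ := fun p => ⟨pw w p.1 * pw r p.2.1 * pw z p.2.2,
    mul_mem (mul_mem (pw_mem P.w_mem _) (pw_mem P.r_mem _)) (pw_mem P.mem _)⟩
  have hf : Function.Bijective f := by
    refine (Nat.bijective_iff_injective_and_card f).2 ⟨fun p q h => ?_, by simp [P.card]⟩
    have h' : pw w p.1 * pw r p.2.1 * pw z p.2.2 = pw w q.1 * pw r q.2.1 * pw z q.2.2 := congrArg Subtype.val h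
    obtain ⟨a1, a2⟩ := P.coords p.1 p.2.1 (pw_mem (mem_zpowers z) p.2.2)
    obtain ⟨b1, b2⟩ := P.coords q.1 q.2.1 (pw_mem (mem_zpowers z) q.2.2)
    rw [h'] at a1 a2
    obtain ⟨e1, e2⟩ : p.1 = q.1 ∧ p.2.1 = q.2.1 := ⟨a1.symm.trans b1, a2.symm.trans b2⟩
    rw [e1, e2] at h'
    exact Prod.ext e1 (Prod.ext e2 (pw_inj P.core (mul_left_cancel h')))
  obtain ⟨⟨i, j, k⟩, hp⟩ := hf.2 ⟨x, hx⟩
  have e : pw w i * pw r j * pw z k = x := congrArg Subtype.val hp
  obtain ⟨a1, a2⟩ := P.coords i j (pw_mem (mem_zpowers z) k)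
  rw [e] at a1 a2
  exact ⟨_, pw_mem (mem_zpowers z) k, by rw [a1, a2, e]⟩

theorem lam_expand (P : Plane Q z Q₁ w r) {x b : G} (hx : x ∈ Q₁) (hb : b ∈ Q) :
    lam z x b = lam z x r * lam z w b + lam z w x * lam z r b := by
  obtain ⟨c, hc, e⟩ := P.exists_coords hx
  conv_lhs => rw [e]
  rw [lam_mul_left P.core (mul_mem (pw_mem (P.le P.w_mem) _) (pw_mem (P.le P.r_mem) _))
      (P.core.zpowers_le_Q hc) hb, lam_mul_left P.core (pw_mem (P.le P.w_mem) _) (pw_mem (P.le P.r_mem) _) hb,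
    P.lam_pw (P.le P.w_mem) hb, P.lam_pw (P.le P.r_mem) hb, lam_central P.core hc hb, add_zero]

/-- The matrix of an element preserving the factor. -/
noncomputable def mat (_P : Plane Q z Q₁ w r) (g : G) : Matrix (Fin 2) (Fin 2) (ZMod 3) :=
  !![lam z (g * w * g⁻¹) r, lam z (g * r * g⁻¹) r; lam z w (g * w * g⁻¹), lam z w (g * r * g⁻¹)]

theorem lam_image (P : Plane Q z Q₁ w r) {g x : G} (hgz : Commute g z) (hg : ∀ q ∈ Q₁, g * q * g⁻¹ ∈ Q₁)
    (hx : x ∈ Q₁) :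
    lam z (g * x * g⁻¹) r = lam z x r * P.mat g 0 0 + lam z w x * P.mat g 0 1 ∧
    lam z w (g * x * g⁻¹) = lam z x r * P.mat g 1 0 + lam z w x * P.mat g 1 1 := by
  obtain ⟨c, hc, e⟩ := P.exists_coords hx
  set i := lam z x r
  set j := lam z w x
  have hgc : g * c * g⁻¹ = c := by rw [(Pt.fix_Z hgz hc).eq, mul_inv_cancel_right]
  have hge : g * x * g⁻¹ = pw (g * w * g⁻¹) i * pw (g * r * g⁻¹) j * c := by
    rw [e, pw, pw, pw, pw, conj_pow, conj_pow]
    conv_rhs => rw [← hgc]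
    group
  have hw' := P.le (hg w P.w_mem)
  have hr' := P.le (hg r P.r_mem)
  have hcQ := P.core.zpowers_le_Q hc
  have h1 := pw_mem hw' i
  have h2 := pw_mem hr' j
  have hw := P.le P.w_mem
  have hr := P.le P.r_mem
  constructor
  · rw [hge, lam_mul_left P.core (mul_mem h1 h2) hcQ hr, lam_mul_left P.core h1 h2 hr, P.lam_pw hw' hr,
      P.lam_pw hr' hr, lam_central P.core hc hr, add_zero]
    rfl
  · rw [hge, lam_skew P.core (mul_mem (mul_mem h1 h2) hcQ) hw, lam_mul_left P.core (mul_mem h1 h2) hcQ hw,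
      lam_mul_left P.core h1 h2 hw, P.lam_pw hw' hw, P.lam_pw hr' hw, lam_central P.core hc hw,
      lam_skew P.core hw hw', lam_skew P.core hw hr']
    show _ = i * lam z w (g * w * g⁻¹) + j * lam z w (g * r * g⁻¹)
    ring

theorem mat_mul (P : Plane Q z Q₁ w r) {g h : G} (hgz : Commute g z) (hg : ∀ q ∈ Q₁, g * q * g⁻¹ ∈ Q₁)
    (hh : ∀ q ∈ Q₁, h * q * h⁻¹ ∈ Q₁) : P.mat (g * h) = P.mat g * P.mat h := by
  have e : ∀ x : G, g * h * x * (g * h)⁻¹ = g * (h * x * h⁻¹) * g⁻¹ := fun x => by group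
  obtain ⟨a1, a2⟩ := P.lam_image hgz hg (hh w P.w_mem)
  obtain ⟨b1, b2⟩ := P.lam_image hgz hg (hh r P.r_mem)
  ext i j
  rw [Matrix.mul_apply, Fin.sum_univ_two]
  fin_cases i <;> fin_cases j
  · show lam z (g * h * w * (g * h)⁻¹) r = _
    rw [e, a1]; exact congrArg₂ (· + ·) (mul_comm _ _) (mul_comm _ _)
  · show lam z (g * h * r * (g * h)⁻¹) r = _
    rw [e, b1]; exact congrArg₂ (· + ·) (mul_comm _ _) (mul_comm _ _)
  · show lam z w (g * h * w * (g * h)⁻¹) = _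
    rw [e, a2]; exact congrArg₂ (· + ·) (mul_comm _ _) (mul_comm _ _)
  · show lam z w (g * h * r * (g * h)⁻¹) = _
    rw [e, b2]; exact congrArg₂ (· + ·) (mul_comm _ _) (mul_comm _ _)

theorem det_mat (P : Plane Q z Q₁ w r) {g : G} (hgz : Commute g z) (hg : ∀ q ∈ Q₁, g * q * g⁻¹ ∈ Q₁) :
    (P.mat g).det = 1 := by
  have hr' := P.le (hg r P.r_mem)
  have h := P.lam_expand (hg w P.w_mem) hr'
  rw [lam_conj P.core hgz (P.le P.w_mem) (P.le P.r_mem) (P.le (hg w P.w_mem)) hr', P.lam_wr] at h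
  rw [mat, Matrix.det_fin_two_of, h, lam_skew P.core hr' (P.le P.r_mem)]
  ring

theorem mat_eq_one (P : Plane Q z Q₁ w r) {g : G} (hgz : Commute g z) (hg : ∀ q ∈ Q₁, g * q * g⁻¹ ∈ Q₁) :
    P.mat g = 1 ↔ ∀ q ∈ Q₁, ⁅g, q⁆ ∈ zpowers z := by
  constructor
  · intro h q hq
    obtain ⟨a1, a2⟩ := P.lam_image hgz hg hq
    simp [h] at a1 a2
    obtain ⟨c, hc, e⟩ := P.exists_coords hq
    obtain ⟨d, hd, e'⟩ := P.exists_coords (hg q hq)
    rw [a1, a2] at e'
    have : ⁅g, q⁆ = pw w (lam z q r) * pw r (lam z w q) * (d * c⁻¹) *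
        (pw w (lam z q r) * pw r (lam z w q))⁻¹ := by
      rw [commutatorElement_def, e']
      nth_rewrite 3 [e]
      group
    rw [this]
    have hm : d * c⁻¹ ∈ zpowers z := mul_mem hd (inv_mem hc)
    have hQ : pw w (lam z q r) * pw r (lam z w q) ∈ Q :=
      mul_mem (pw_mem (P.le P.w_mem) _) (pw_mem (P.le P.r_mem) _)
    rwa [← P.core.commute hm hQ, mul_inv_cancel_right]
  · intro h
    have key : ∀ q ∈ Q₁, ∀ b ∈ Q, lam z (g * q * g⁻¹) b = lam z q b ∧ lam z b (g * q * g⁻¹) = lam z b q := by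
      intro q hq b hb
      have e : g * q * g⁻¹ = ⁅g, q⁆ * q := by simp only [commutatorElement_def]; group
      have h1 : lam z (g * q * g⁻¹) b = lam z q b := by
        rw [e, lam_mul_left P.core (P.core.zpowers_le_Q (h q hq)) (P.le hq) hb, lam_central P.core (h q hq) hb,
          zero_add]
      exact ⟨h1, by rw [lam_skew P.core (P.le (hg q hq)) hb, h1, ← lam_skew P.core (P.le hq) hb]⟩
    rw [mat, (key w P.w_mem r (P.le P.r_mem)).1, (key r P.r_mem r (P.le P.r_mem)).1,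
      (key w P.w_mem w (P.le P.w_mem)).2, (key r P.r_mem w (P.le P.w_mem)).2, P.lam_wr,
      lam_self P.core (P.le P.r_mem), lam_self P.core (P.le P.w_mem)]
    exact Matrix.one_fin_two.symm

/-- The homomorphism of a subgroup preserving the factor. -/
noncomputable def act (P : Plane Q z Q₁ w r) (M : Subgroup G)
    (hM : ∀ g ∈ M, Commute g z ∧ ∀ q ∈ Q₁, g * q * g⁻¹ ∈ Q₁) : M →* SL(2, ZMod 3) :=
  MonoidHom.mk' (fun g => ⟨P.mat g, P.det_mat (hM g g.2).1 (hM g g.2).2⟩) fun g h =>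
    Subtype.ext (P.mat_mul (hM g g.2).1 (hM g g.2).2 (hM h h.2).2)

theorem act_eq_one (P : Plane Q z Q₁ w r) {M : Subgroup G}
    (hM : ∀ g ∈ M, Commute g z ∧ ∀ q ∈ Q₁, g * q * g⁻¹ ∈ Q₁) (x : M) :
    P.act M hM x = 1 ↔ ∀ q ∈ Q₁, ⁅(x : G), q⁆ ∈ zpowers z := by
  rw [← P.mat_eq_one (hM x x.2).1 (hM x x.2).2]
  exact ⟨fun h => congrArg Subtype.val h, fun h => Subtype.ext h⟩

/-- An element fixing the first axis modulo the centre is unitriangular. -/
theorem act_fix (P : Plane Q z Q₁ w r) {M : Subgroup G}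
    (hM : ∀ g ∈ M, Commute g z ∧ ∀ q ∈ Q₁, g * q * g⁻¹ ∈ Q₁) (x : M) (h : ⁅(x : G), w⁆ ∈ zpowers z) :
    (P.act M hM x).1 0 0 = 1 ∧ (P.act M hM x).1 1 0 = 0 := by
  have hw := P.le P.w_mem
  have e : (x : G) * w * (x : G)⁻¹ = ⁅(x : G), w⁆ * w := by simp only [commutatorElement_def]; group
  constructor
  · show lam z ((x : G) * w * (x : G)⁻¹) r = 1
    rw [e, lam_mul_left P.core (P.core.zpowers_le_Q h) hw (P.le P.r_mem), lam_central P.core h (P.le P.r_mem),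
      P.lam_wr, zero_add]
  · show lam z w ((x : G) * w * (x : G)⁻¹) = 0
    rw [e, lam_mul_right P.core (P.core.zpowers_le_Q h) hw hw, lam_skew P.core (P.core.zpowers_le_Q h) hw,
      lam_central P.core h hw, lam_self P.core hw]
    ring

end Plane

theorem card_SL : Nat.card SL(2, ZMod 3) = 24 := by
  rw [Nat.card_eq_fintype_card]
  decide +kernel

/-- A subgroup of order divisible by eight and containing an element of order three is everything. -/
theorem top_of_dvd (H : Subgroup SL(2, ZMod 3)) (h8 : 8 ∣ Nat.card H) {u : SL(2, ZMod 3)} (hu : u ∈ H)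
    (hu3 : u ^ 3 = 1) (hu1 : u ≠ 1) : H = ⊤ := by
  haveI : Fact (Nat.Prime 3) := ⟨Nat.prime_three⟩
  have ho : orderOf u = 3 := orderOf_eq_prime hu3 hu1
  have h3 := Subgroup.orderOf_dvd_natCard H hu
  rw [ho] at h3
  refine eq_top_of_card_eq _ ?_
  rw [card_SL]
  have hd := card_subgroup_dvd_card H
  rw [card_SL] at hd
  exact Nat.dvd_antisymm hd (Nat.Coprime.mul_dvd_of_dvd_of_dvd (by norm_num : Nat.Coprime 8 3) h8 h3)

/-- Unitriangular elements are powers of a non-trivial one. -/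
theorem exists_pow_eq {A B : SL(2, ZMod 3)} (hA : A.1 0 0 = 1 ∧ A.1 1 0 = 0) (hB : B.1 0 0 = 1 ∧ B.1 1 0 = 0)
    (hB1 : B ≠ 1) : ∃ k : ℕ, A = B ^ k := by
  have key : ∀ {M : SL(2, ZMod 3)}, M.1 0 0 = 1 ∧ M.1 1 0 = 0 →
      M.1 = !![1, M.1 0 1; 0, 1] := fun {M} h => by
    have hd := M.2
    rw [Matrix.det_fin_two, h.1, h.2, mul_zero, sub_zero, one_mul] at hd
    ext i j
    fin_cases i <;> fin_cases j
    · exact h.1
    · rfl
    · exact h.2
    · exact hd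
  have hd : B.1 0 1 ≠ 0 := fun h => hB1 (Subtype.ext (by
    rw [key hB, h]
    exact Matrix.one_fin_two.symm))
  have kA := key hA
  have kB := key hB
  obtain ⟨a, ha⟩ : ∃ a, A.1 0 1 = a := ⟨_, rfl⟩
  obtain ⟨d, hd'⟩ : ∃ d, B.1 0 1 = d := ⟨_, rfl⟩
  rw [hd'] at hd kB
  rw [ha] at kA
  refine ⟨(a * d).val, Subtype.ext ?_⟩
  rw [Matrix.SpecialLinearGroup.coe_pow, kA, kB]
  have pk : ∀ (d : ZMod 3) (n : ℕ), (!![1, d; 0, 1] : Matrix (Fin 2) (Fin 2) (ZMod 3)) ^ n = !![1, n * d; 0, 1] := by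
    intro d n
    induction n with
    | zero => simp [Matrix.one_fin_two]
    | succ n ih =>
      rw [pow_succ, ih, Matrix.mul_fin_two]
      simp [add_mul, add_comm]
  rw [pk, ZMod.natCast_zmod_val, mul_assoc,
    (by decide : ∀ c : ZMod 3, c ≠ 0 → c * c = 1) _ hd, mul_one]

end Cfsg.Agent.U62Three.Local
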