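import Cfsg.Agent.Lib.U62Three.Local.Kernel

/-!
Coordinates of the subgroup of order 81 whose axes lie in the two factors, in which the two involutions act as the
reflections in the axes.
-/

set_option autoImplicit false
set_option maxRecDepth 20000
set_option linter.style.haveILetI false
set_option linter.unusedSectionVars false

namespace Cfsg.Agent.U62Three

open Subgroup
open scoped commutatorElement
open Co2Three (V4 qf bf e0 e1 e2 e3 IsSim isSim_mult IsPoint refl1 pw pw_zero pw_one)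

variable {G : Type*} [Group G] [Finite G]

/-- Coordinates changed by an isometry fixing the central line and the tangent hyperplane. -/
theorem JData.comp {Q : Subgroup G} {el : V4 → G} (J : JData Q el) {R R' : Matrix (Fin 4) (Fin 4) (ZMod 3)}
    (h : ∀ v, R.mulVec (R'.mulVec v) = v) (h' : ∀ v, R'.mulVec (R.mulVec v) = v)
    (hq : ∀ v, qf (R.mulVec v) = qf v) (h3 : ∀ v, (R.mulVec v) 3 = 0 ↔ v 3 = 0)
    (h0 : R.mulVec e0 = e0 ∨ R.mulVec e0 = -e0) (hrot : ∀ M, IsRot M → IsRot (R * M * R')) :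
    JData Q (fun v => el (R.mulVec v)) := by
  have hne : ∀ v, v ≠ 0 → R.mulVec v ≠ 0 := fun v hv e => hv (by rw [← h' v, e, Matrix.mulVec_zero])
  have h0' : el (R.mulVec e0) = el e0 ∨ el (R.mulVec e0) = (el e0)⁻¹ := by
    rcases h0 with e | e <;> rw [e]
    · exact Or.inl rfl
    · refine Or.inr (eq_inv_of_mul_eq_one_left ?_)
      rw [← J.el_add, neg_add_cancel]
      exact mul_eq_left.1 ((J.el_add 0 0).symm.trans (by rw [add_zero]))
  have hcomm : ∀ {g : G}, Commute g (el (R.mulVec e0)) → Commute g (el e0) := fun {g} hg => by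
    rcases h0' with e | e <;> rw [e] at hg
    · exact hg
    · exact Commute.inv_right_iff.1 hg
  have hall : ∀ {g : G}, (∀ v, Commute g (el (R.mulVec v))) → ∀ v, Commute g (el v) := fun {g} hg v => by
    have := hg (R'.mulVec v)
    rwa [h] at this
  have hsq : IsSim R := Or.inl hq
  have hR' : ∀ v, qf (R'.mulVec v) = qf v := fun v => by rw [← hq (R'.mulVec v), h]
  refine ⟨fun u v => by rw [Matrix.mulVec_add, J.el_add], fun u v e => ?_, fun g hg => J.cent_three g (hall hg),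
    fun g hgQ hg => ?_, fun hidx g hg => ?_, fun g hg => ?_, fun M hM => ?_, fun v hv => ?_,
    fun K hK hKn => J.no_sig K hK fun v k hk => by simpa only [h] using hKn (R'.mulVec v) k hk, ?_,
    fun v => (J.Q_J _).trans (h3 v), fun v hv hvq g hg hgv u => ?_, fun b hb hb' => ?_⟩
  · rw [← h' u, ← h' v, J.el_inj e]
  · obtain ⟨v, hv⟩ := J.cent_core g hgQ (hall hg)
    exact ⟨R'.mulVec v, by rw [h]; exact hv⟩
  · obtain ⟨v, hv⟩ := J.cent_J (by
      have hc : centralizer ({el (R.mulVec e0)} : Set G) = centralizer {el e0} := by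
        rcases h0' with e | e <;> rw [e]
        ext x
        rw [mem_centralizer_singleton_iff, mem_centralizer_singleton_iff]
        exact Commute.inv_right_iff (a := x) (b := el e0)
      rwa [← hc]) g (hall hg)
    exact ⟨R'.mulVec v, by rw [h]; exact hv⟩
  · obtain ⟨M, hM, hMv⟩ := J.norm_sim g fun v => by
      obtain ⟨w, hw⟩ := hg (R'.mulVec v)
      rw [h] at hw
      exact ⟨_, hw⟩
    refine ⟨R' * M * R, ?_, fun v => ?_⟩
    · have e : ∀ v, qf ((R' * M * R).mulVec v) = qf (M.mulVec (R.mulVec v)) := fun v => by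
        rw [← Matrix.mulVec_mulVec, ← Matrix.mulVec_mulVec, hR']
      exact hM.imp (fun hh v => by rw [e, hh, hq]) fun hh v => by rw [e, hh, hq]
    · rw [hMv, ← Matrix.mulVec_mulVec, ← Matrix.mulVec_mulVec, h]
  · obtain ⟨g, hg⟩ := J.rot _ (hrot M hM)
    exact ⟨g, fun v => by rw [hg, ← Matrix.mulVec_mulVec, ← Matrix.mulVec_mulVec, h']⟩
  · rw [← hq v]
    constructor
    · rintro ⟨g, hg⟩
      rcases h0 with e | e
      · exact (J.fused _ (hne v hv)).1 ⟨g, e ▸ hg⟩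
      · have hg' : g * el e0 * g⁻¹ = el (-(R.mulVec v)) := by
          have e' : ∀ w, el (-w) = (el w)⁻¹ := fun w => eq_inv_of_mul_eq_one_left (by
            rw [← J.el_add, neg_add_cancel]
            exact mul_eq_left.1 ((J.el_add 0 0).symm.trans (by rw [add_zero])))
          rw [e', ← hg]
          show _ = (g * el (R.mulVec e0) * g⁻¹)⁻¹
          rw [e, e']; group
        have h2 := (J.fused _ (neg_ne_zero.2 (hne v hv))).1 ⟨g, hg'⟩
        rwa [show ∀ w : V4, qf (-w) = qf w by decide +kernel] at h2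
    · intro hv0
      obtain ⟨g, hg⟩ := (J.fused _ (hne v hv)).2 hv0
      obtain ⟨k, hk⟩ := (J.fused (R.mulVec e0) (hne e0 (by decide))).2 (by rw [hq]; decide)
      exact ⟨g * k⁻¹, by rw [← hg, ← hk]; group⟩
  · rcases h0' with e | e
    · simp only [e]; exact J.pt
    · simp only [e]; exact J.pt.inv
  · obtain ⟨w, hw⟩ := J.secant _ (fun e => hv ((h3 v).1 e)) (by rwa [hq]) g (hcomm hg) hgv (R.mulVec u)
    exact ⟨R'.mulVec w, by rw [h]; exact hw⟩
  · have hb2 : (R.mulVec b) 1 ≠ 0 ∨ (R.mulVec b) 2 ≠ 0 := by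
      have key : ∀ u : V4, u 3 = 0 → ((u 1 ≠ 0 ∨ u 2 ≠ 0) ↔ qf u ≠ 0) := by decide +kernel
      rw [key _ ((h3 b).2 hb), hq, ← key b hb]
      exact hb'
    obtain ⟨hc, hz⟩ := J.tangent_core _ ((h3 b).2 hb) hb2
    refine ⟨hc, fun x hx => (hz x hx).trans ?_⟩
    constructor
    · rintro ⟨i, j, rfl⟩
      rcases h0 with e | e
      · exact ⟨i, j, by rw [Matrix.mulVec_add, Matrix.mulVec_smul, Matrix.mulVec_smul, e]⟩
      · exact ⟨-i, j, by rw [Matrix.mulVec_add, Matrix.mulVec_smul, Matrix.mulVec_smul, e, neg_smul_neg]⟩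
    · rintro ⟨i, j, rfl⟩
      rcases h0 with e | e
      · exact ⟨i, j, by rw [Matrix.mulVec_add, Matrix.mulVec_smul, Matrix.mulVec_smul, e]⟩
      · exact ⟨-i, j, by rw [Matrix.mulVec_add, Matrix.mulVec_smul, Matrix.mulVec_smul, e, smul_neg, ← neg_smul]⟩

/-- The exchange of the axes. -/
def swapM : Matrix (Fin 4) (Fin 4) (ZMod 3) := !![1, 0, 0, 0; 0, 0, 1, 0; 0, 1, 0, 0; 0, 0, 0, 1]

theorem swap_facts : (∀ a b : ZMod 3, swapM * trM a b * swapM = trM b a ∧ swapM * tr3M a b * swapM = tr3M b a) ∧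
    swapM * swapM = 1 ∧ swapM.mulVec e0 = e0 ∧ swapM.mulVec e1 = e2 ∧ swapM.mulVec e2 = e1 ∧
    swapM.mulVec e3 = e3 := by decide +kernel

theorem swap_vec : ∀ v : V4, qf (swapM.mulVec v) = qf v ∧ ((swapM.mulVec v) 3 = 0 ↔ v 3 = 0) ∧
    swapM.mulVec (swapM.mulVec v) = v := by decide +kernel

theorem IsRot.swapM {M : Matrix (Fin 4) (Fin 4) (ZMod 3)} (h : IsRot M) : IsRot (swapM * M * swapM) := by
  induction h using Submonoid.closure_induction with
  | mem A hA =>
    rcases hA with ⟨p, rfl⟩ | ⟨p, rfl⟩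
    · exact (swap_facts.1 p.1 p.2).1 ▸ isRot_tr p.2 p.1
    · exact (swap_facts.1 p.1 p.2).2 ▸ isRot_tr3 p.2 p.1
  | one => rw [mul_one, swap_facts.2.1]; exact isRot_one
  | mul A B _ _ hA hB =>
    have e : U62Three.swapM * (A * B) * U62Three.swapM =
        (U62Three.swapM * A * U62Three.swapM) * (U62Three.swapM * B * U62Three.swapM) := by
      rw [show U62Three.swapM * A * U62Three.swapM * (U62Three.swapM * B * U62Three.swapM) =
        U62Three.swapM * A * (U62Three.swapM * U62Three.swapM) * B * U62Three.swapM by simp only [mul_assoc],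
        swap_facts.2.1]
      simp only [mul_assoc, mul_one]
    rw [e]
    exact hA.mul hB

theorem tr_vec : ∀ a b : ZMod 3, ∀ v : V4, (trM a b).mulVec ((trM (-a) (-b)).mulVec v) = v ∧
    (trM (-a) (-b)).mulVec ((trM a b).mulVec v) = v ∧ (((trM a b).mulVec v) 3 = 0 ↔ v 3 = 0) := by decide +kernel

theorem axis_orth : ∀ α : ZMod 3, ∀ u : V4, bf (α • e0 - e1) u = bf e1 u → u 3 = 0 → u 1 = 0 := by
  decide +kernel

theorem reflection_check : ∀ α q c d : ZMod 3, qf ![q, c, d, 1] = 0 → bf e2 ![q, c, d, 1] = 0 →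
    bf (α • e0 - e1) ![q, c, d, 1] = 0 → ∃ s : ZMod 3, ∀ v : V4,
      let w := (trM s 0).mulVec v
      w 0 • e0 + w 1 • (α • e0 - e1) + w 2 • e2 + w 3 • ![q, c, d, 1] = (trM s 0).mulVec (refl1 v) := by
  decide +kernel

theorem tr_refl : ∀ s r : ZMod 3, ∀ v : V4,
    (trM s r).mulVec v = (trM s 0).mulVec ((trM 0 r).mulVec v) ∧
    (trM 0 r).mulVec (refl1 v) = refl1 ((trM 0 r).mulVec v) ∧
    (trM s r).mulVec v = swapM.mulVec ((trM r 0).mulVec (swapM.mulVec ((trM s 0).mulVec v))) ∧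
    swapM.mulVec (refl1 (swapM.mulVec v)) = refl2 v ∧
    (trM s 0).mulVec (refl2 v) = refl2 ((trM s 0).mulVec v) := by decide +kernel

theorem basis_sum : ∀ v : V4, v = v 0 • e0 + v 1 • e1 + v 2 • e2 + v 3 • e3 := by decide +kernel

theorem mover_facts : (∀ k : ZMod 3, qf ![k, -1, 0, 1] = 0 → k = 1) ∧
    (∀ w : V4, (trM (-1) 0).mulVec w = w → w 3 = 0 → w 1 = 0) := by decide +kernel

theorem span_facts : ∀ w : V4, w 3 = 0 → w 1 = 0 → w 2 ≠ 0 → e2 = w 2 • w + (-(w 2 * w 0)) • e0 := by decide +kernel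

theorem neg_facts : (∀ M : Matrix (Fin 4) (Fin 4) (ZMod 3), (-1 : Matrix (Fin 4) (Fin 4) (ZMod 3)) * M * (-1) = M) ∧
    ∀ v : V4, qf (-v) = qf v ∧ ((-v) 3 = 0 ↔ v 3 = 0) :=
  ⟨fun M => by simp, by decide +kernel⟩

namespace Setup

variable (S : Setup G)

/-- An element of odd order centralising the central element preserves both factors. -/
theorem pres_of_three {y : G} (hy : Commute y S.z) {n : ℕ} (hy3 : y ^ 3 ^ n = 1) : S.Pres y := by
  have h2 : S.Pres (y * y) := by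
    refine (S.perm y (S.conj_z hy)).elim (fun h => S.presGrp.mul_mem (x := y) (y := y) ⟨hy, h⟩ ⟨hy, h⟩)
      fun h => ⟨hy.mul_left hy, fun a ha => ?_, fun a ha => ?_⟩
    · rw [show y * y * a * (y * y)⁻¹ = y * (y * a * y⁻¹) * y⁻¹ by group]; exact h.2 _ (h.1 a ha)
    · rw [show y * y * a * (y * y)⁻¹ = y * (y * a * y⁻¹) * y⁻¹ by group]; exact h.1 _ (h.2 a ha)
  obtain ⟨k, hk⟩ : ∃ k : ℕ, 3 ^ n + 1 = 2 * k :=
    ⟨(3 ^ n + 1) / 2, (Nat.mul_div_cancel' (Odd.add_one (Odd.pow (by decide))).two_dvd).symm⟩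
  have e : y = (y * y) ^ k := by
    calc y = y ^ (3 ^ n + 1) := by rw [pow_succ, hy3, one_mul]
      _ = (y * y) ^ k := by rw [hk, pow_mul, pow_two]
  rw [e]
  exact S.presGrp.pow_mem h2 k

/-- A point outside the core acts non-trivially on both factors. -/
theorem moves (hP : Pt S.Q S.z) {y : G} (hyp : IsPoint S.z y) (hy : Commute y S.z) (hyQ : y ∉ S.Q) :
    ∃ a ∈ S.Q1, ⁅y, a⁆ ∉ zpowers S.z := by
  obtain ⟨Q', hP'⟩ := IsPoint.exists_pt hP hyp
  by_contra hno
  push Not at hno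
  have hpres := S.pres_of_three (n := 1) hy (by rw [pow_one]; exact hP'.z3)
  set W := hP.W y hy
  have h1 : S.Q1 ≤ W := fun a ha => ⟨S.le1 ha, hno a ha⟩
  have hW : W = S.Q1 := (eq_of_le_of_card_ge h1 (by rw [hP.card_W hyp hy hyQ, S.card1])).symm
  have hmem : ∀ b ∈ S.Q2, ⁅y, b⁆ ∈ zpowers S.z → b ∈ zpowers S.z := fun b hb h =>
    S.inf12.le ⟨hW.le ⟨S.le2 hb, h⟩, hb⟩
  by_cases h2 : ∃ b ∈ S.Q2, ⁅y, b⁆ ∉ zpowers S.z
  · obtain ⟨X, hX, -, hXm, -⟩ := Local.factor S.core S.exp S.le2 S.card2 S.z_mem2 hy hP'.z3 hpres.2.2 h2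
    have := card_le_of_le (fun x hx => hmem x ((hXm x).1 hx).1 ((hXm x).1 hx).2 : X ≤ zpowers S.z)
    rw [hX, S.core.card_zpowers] at this
    omega
  · push Not at h2
    obtain ⟨b, hb, hbz⟩ := S.exists_not_mem₂
    exact hbz (hmem b hb (h2 b hb))

/-- Two commuting points. -/
theorem exists_base (hP : Pt S.Q S.z) : ∃ u : G, Base S.Q S.z u := by
  obtain ⟨g, h1, h2⟩ := S.nwc
  exact ⟨_, hP, ⟨g, Or.inl rfl⟩, h1, h2⟩

theorem exists_axis (hP : Pt S.Q S.z) {u : G} (b : Base S.Q S.z u) :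
    ∃ a : b.A, (a : G) ∉ zpowers S.z ∧ (a : G) ∈ S.Q1 := by
  obtain ⟨X, hX, -, hXm, -⟩ := Local.factor S.core S.exp S.le1 S.card1 S.z_mem1 b.com b.z'3
    (S.pres_of_three (n := 1) b.com (by rw [pow_one]; exact b.z'3)).2.1 (S.moves hP b.point b.com b.not_mem)
  obtain ⟨a, ha, haz⟩ : ∃ a ∈ X, a ∉ zpowers S.z := by
    by_contra hno
    push Not at hno
    have := card_le_of_le (show X ≤ zpowers S.z from hno)
    rw [hX, S.core.card_zpowers] at this
    omega
  obtain ⟨haQ, hay⟩ := (hXm a).1 ha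
  exact ⟨⟨a, b.mem_A_of_coset (one_mem _) (one_ne_zero (α := ZMod 3)) (S.le1 haQ)
    (by rwa [one_mul, pw_one])⟩, haz, haQ⟩

end Setup

/-- Coordinates with the axes in the factors. -/
structure Axes (S : Setup G) (el : V4 → G) : Prop where
  z_eq : el e0 = S.z
  jd : JData S.Q el
  e1_mem : el e1 ∈ S.Q1
  e2_mem : el e2 ∈ S.Q2
  point : IsPoint S.z (el e3)

namespace Axes

variable {S : Setup G} {el : V4 → G}

theorem zero (A : Axes S el) : el 0 = 1 := mul_eq_left.1 ((A.jd.el_add 0 0).symm.trans (by rw [add_zero]))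

theorem neg (A : Axes S el) (v : V4) : el (-v) = (el v)⁻¹ :=
  eq_inv_of_mul_eq_one_left (by rw [← A.jd.el_add, neg_add_cancel, A.zero])

theorem comm (A : Axes S el) (u v : V4) : Commute (el u) (el v) := by
  rw [Commute, SemiconjBy, ← A.jd.el_add, ← A.jd.el_add, add_comm]

theorem smul (A : Axes S el) (k : ZMod 3) (v : V4) : el (k • v) = el v ^ k.val := by
  rw [← el_natCast_smul el A.jd.el_add k.val v, ZMod.natCast_rightInverse]

theorem pt (A : Axes S el) : Pt S.Q S.z := A.z_eq ▸ A.jd.pt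

theorem z_line (A : Axes S el) (c : ZMod 3) : el (c • e0) ∈ zpowers S.z := by
  rw [A.smul, A.z_eq]
  exact pow_mem (mem_zpowers _) _

theorem exists_line (A : Axes S el) {x : G} (hx : x ∈ zpowers S.z) : ∃ c : ZMod 3, x = el (c • e0) := by
  obtain ⟨k, rfl⟩ := Local.exists_pw S.core hx
  exact ⟨k, by rw [A.smul, A.z_eq]; rfl⟩

theorem not_line (A : Axes S el) {v : V4} (hv : v 1 ≠ 0 ∨ v 2 ≠ 0) : el v ∉ zpowers S.z := fun hm => by
  obtain ⟨c, hc⟩ := A.exists_line hm
  have := A.jd.el_inj hc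
  rcases hv with h | h <;> exact h (by simp [this, e0])

theorem e1_not (A : Axes S el) : el e1 ∉ zpowers S.z := A.not_line (Or.inl (by decide))

theorem e2_not (A : Axes S el) : el e2 ∉ zpowers S.z := A.not_line (Or.inr (by decide))

theorem e3_com (A : Axes S el) : Commute (el e3) S.z := A.z_eq ▸ A.comm e3 e0

theorem e3_not (A : Axes S el) : el e3 ∉ S.Q := fun h => absurd ((A.jd.Q_J e3).1 h) (by decide)

/-- Change of coordinates. -/
theorem change (A : Axes S el) {R : Matrix (Fin 4) (Fin 4) (ZMod 3)} (s r : ZMod 3) (hR : R = trM s r) :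
    Axes S (fun v => el (R.mulVec v)) := by
  subst hR
  obtain ⟨-, -, -, t0, t1, t2, t3⟩ := tr_facts s r 0
  refine ⟨show el ((trM s r).mulVec e0) = S.z by rw [t0, A.z_eq],
    A.jd.comp (fun v => (tr_vec s r v).1) (fun v => (tr_vec s r v).2.1) (fun v => (trM_mulVec s r v).1)
      (fun v => (tr_vec s r v).2.2) (Or.inl t0) fun M hM => ((isRot_tr s r).mul hM).mul (isRot_tr (-s) (-r)),
    ?_, ?_, ?_⟩
  · show el ((trM s r).mulVec e1) ∈ S.Q1
    rw [t1, A.jd.el_add]
    exact mul_mem (zpowers_le.2 S.z_mem1 (A.z_line _)) A.e1_mem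
  · show el ((trM s r).mulVec e2) ∈ S.Q2
    rw [t2, A.jd.el_add]
    exact mul_mem (zpowers_le.2 S.z_mem2 (A.z_line _)) A.e2_mem
  · show IsPoint S.z (el ((trM s r).mulVec e3))
    have hq : qf ((trM s r).mulVec e3) = 0 := by rw [(trM_mulVec s r e3).1]; decide
    obtain ⟨g, hg⟩ := (A.jd.fused _ (fun e => absurd (congrFun e 3) (by rw [t3]; exact one_ne_zero))).2 hq
    exact ⟨g, Or.inl (A.z_eq ▸ hg)⟩

/-- The exchange of the factors. -/
theorem swap (A : Axes S el) : Axes S.swap (fun v => el (swapM.mulVec v)) := by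
  obtain ⟨-, -, h0, h1, h2, h3⟩ := swap_facts
  refine ⟨show el (swapM.mulVec e0) = S.z by rw [h0, A.z_eq],
    A.jd.comp (fun v => (swap_vec v).2.2) (fun v => (swap_vec v).2.2) (fun v => (swap_vec v).1)
      (fun v => (swap_vec v).2.1) (Or.inl h0) fun M hM => hM.swapM, ?_, ?_, ?_⟩
  · show el (swapM.mulVec e1) ∈ S.Q2
    rw [h1]; exact A.e2_mem
  · show el (swapM.mulVec e2) ∈ S.Q1
    rw [h2]; exact A.e1_mem
  · show IsPoint S.z (el (swapM.mulVec e3))
    rw [h3]; exact A.point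

/-- Modulo the core the involution commutes with an element preserving the factors and fixing the axes. -/
theorem t_comm_mod {S : Setup G} {y : G} (hy : S.Pres y) : ⁅y, S.t⁆ ∈ S.Q := by
  have htz : Commute S.t S.z := (S.pres_P S.t_mem).1
  have ti : S.t⁻¹ = S.t := inv_eq_of_mul_eq_one_right S.t_sq
  have hyi : S.Pres y⁻¹ := S.presGrp.inv_mem hy
  refine S.mem_Q_of_trivial
    (((hy.1.mul_left htz).mul_left hy.1.inv_left).mul_left htz.inv_left) (fun a ha => ?_) fun b hb => ?_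
  · -- on the first factor
    have hta : ∀ x ∈ S.Q1, ∃ c ∈ zpowers S.z, S.t * x * S.t⁻¹ = c * x⁻¹ := fun x hx =>
      ⟨_, S.t_inv x hx, (mul_inv_cancel_right _ x).symm⟩
    obtain ⟨c, hc, h1⟩ := hta a ha
    obtain ⟨d, hd, h2⟩ := hta _ (hyi.2.1 a ha)
    have hu : y * S.t * y⁻¹ * a * (y * S.t * y⁻¹)⁻¹ = d * a⁻¹ := by
      calc y * S.t * y⁻¹ * a * (y * S.t * y⁻¹)⁻¹ = y * (S.t * (y⁻¹ * a * y⁻¹⁻¹) * S.t⁻¹) * y⁻¹ := by group
        _ = (y * d * y⁻¹) * a⁻¹ := by rw [h2]; group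
        _ = d * a⁻¹ := by rw [(Pt.fix_Z hy.1 hd).eq, mul_inv_cancel_right]
    have hyt : Commute (y * S.t * y⁻¹) c := Pt.fix_Z ((hy.1.mul_left htz).mul_left hy.1.inv_left) hc
    have e : ⁅y, S.t⁆ * a * ⁅y, S.t⁆⁻¹ = c * (d * a⁻¹)⁻¹ := by
      rw [← hu]
      calc ⁅y, S.t⁆ * a * ⁅y, S.t⁆⁻¹ = y * S.t * y⁻¹ * (S.t⁻¹ * a * S.t⁻¹⁻¹) * (y * S.t * y⁻¹)⁻¹ := by
            simp only [commutatorElement_def]; group
        _ = y * S.t * y⁻¹ * (c * a⁻¹) * (y * S.t * y⁻¹)⁻¹ := by rw [ti, h1]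
        _ = (y * S.t * y⁻¹ * c * (y * S.t * y⁻¹)⁻¹) * (y * S.t * y⁻¹ * a * (y * S.t * y⁻¹)⁻¹)⁻¹ := by group
        _ = c * (y * S.t * y⁻¹ * a * (y * S.t * y⁻¹)⁻¹)⁻¹ := by rw [hyt.eq, mul_inv_cancel_right]
    rw [commutatorElement_def ⁅y, S.t⁆ a, e,
      show c * (d * a⁻¹)⁻¹ * a⁻¹ = c * (a * d⁻¹ * a⁻¹) by group,
      ← S.core.commute (inv_mem hd) (S.le1 ha), mul_inv_cancel_right]
    exact mul_mem hc (inv_mem hd)
  · -- the second factor is centralised
    have hb' : Commute S.t (y⁻¹ * b * y⁻¹⁻¹) := S.P_Q2 _ S.t_mem _ (hyi.2.2 b hb)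
    have h1 : Commute (y * S.t * y⁻¹) b := by
      have := hb'.map (MulAut.conj y).toMonoidHom
      simpa [mul_assoc] using this
    rw [commutatorElement_eq_one_iff_mul_comm.2]
    · exact one_mem _
    · rw [commutatorElement_def]
      exact (h1.mul_left (S.P_Q2 _ S.t_mem b hb).inv_left).eq

/-- The first involution normalises the coordinates and is a conjugate of the reflection. -/
theorem exists_t (A : Axes S el) : ∃ s : ZMod 3, ∀ v,
    S.t * el ((trM s 0).mulVec v) * S.t⁻¹ = el ((trM s 0).mulVec (refl1 v)) := by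
  have hbase : Base S.Q S.z (el e3) :=
    ⟨A.pt, A.point, A.e3_com, fun h => A.e3_not (A.pt.core.zpowers_le_Q h)⟩
  have hy3 : el e3 ^ 3 ^ 1 = 1 := by rw [pow_one]; exact hbase.z'3
  have hq : S.t * el e3 * S.t⁻¹ * (el e3)⁻¹ ∈ S.Q := by
    have := inv_mem (t_comm_mod (S.pres_of_three A.e3_com hy3))
    rwa [commutatorElement_inv, commutatorElement_def] at this
  have htz : Commute S.t S.z := (S.pres_P S.t_mem).1
  have hct : ∀ b ∈ S.Q2, Commute S.t b := S.P_Q2 _ S.t_mem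
  -- the subgroup is normalised
  have hnorm : ∀ v, ∃ w, S.t * el v * S.t⁻¹ = el w := by
    have hlow : ∀ v : V4, v 3 = 0 → ∃ w, S.t * el v * S.t⁻¹ = el w := by
      intro v hv
      obtain ⟨c, hc⟩ := A.exists_line (S.t_inv _ A.e1_mem)
      refine ⟨v 0 • e0 + v 1 • (c • e0 - e1) + v 2 • e2, ?_⟩
      have h1 : S.t * el e1 * S.t⁻¹ = el (c • e0 - e1) := by
        rw [sub_eq_add_neg, A.jd.el_add, A.neg, ← hc]; group
      conv_lhs => rw [basis_sum v, hv, zero_smul, add_zero, A.jd.el_add, A.jd.el_add]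
      rw [A.jd.el_add, A.jd.el_add, A.smul (v 1) e1, A.smul (v 1) (c • e0 - e1), ← h1, conj_pow]
      have h0 : Commute S.t (el (v 0 • e0)) := Pt.fix_Z htz (A.z_line _)
      have h2 : Commute S.t (el (v 2 • e2)) := by rw [A.smul]; exact (hct _ A.e2_mem).pow_right _
      calc S.t * (el (v 0 • e0) * el e1 ^ (v 1).val * el (v 2 • e2)) * S.t⁻¹
          = (S.t * el (v 0 • e0) * S.t⁻¹) * (S.t * el e1 ^ (v 1).val * S.t⁻¹) *
            (S.t * el (v 2 • e2) * S.t⁻¹) := by group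
        _ = _ := by rw [h0.eq, h2.eq, mul_inv_cancel_right, mul_inv_cancel_right]
    intro v
    obtain ⟨x, hx⟩ := hlow (v - v 3 • e3) (by simp [e3])
    have h3 : ∃ w, S.t * el e3 * S.t⁻¹ = el w := by
      set q := S.t * el e3 * S.t⁻¹ * (el e3)⁻¹ with hqd
      have he : S.t * el e3 * S.t⁻¹ = q * el e3 := by rw [hqd]; group
      have hp : IsPoint S.z (q * el e3) := he ▸ A.point.conj S.t
      have hqz : Commute (q * el e3) S.z := he ▸ (htz.mul_left A.e3_com).mul_left htz.inv_left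
      obtain ⟨hm, -⟩ := hbase.point_mem_J (q := q) (k := 1) hp (fun h => A.e3_not
        ((Subgroup.mul_mem_cancel_left S.Q hq).1 (A.pt.core.zpowers_le_Q h))) hqz hq one_ne_zero (by rw [pw_one])
      obtain ⟨a, ha, k, hk⟩ := hm
      have hQA : ∀ a ∈ hbase.A, ∃ w, a = el w := by
        intro a ha
        refine A.jd.cent_core a ha.1 fun w => ?_
        have hA0 : ∀ u : V4, u 3 = 0 → Commute a (el u) := fun u hu =>
          hbase.A_comm a ha _ ⟨(A.jd.Q_J u).2 hu, mem_centralizer_singleton_iff.2 (A.comm u e3).eq⟩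
        have e : el w = el (w - w 3 • e3) * el (w 3 • e3) := by rw [← A.jd.el_add, sub_add_cancel]
        rw [e]
        refine (hA0 _ (by simp [e3])).mul_right ?_
        rw [A.smul]
        exact (hbase.commute_A ha).pow_right _
      obtain ⟨w, rfl⟩ := hQA a ha
      exact ⟨w + k • e3, by rw [he, hk, A.jd.el_add, A.smul]; rfl⟩
    obtain ⟨y, hy⟩ := h3
    refine ⟨x + v 3 • y, ?_⟩
    have e : el v = el (v - v 3 • e3) * el (v 3 • e3) := by rw [← A.jd.el_add, sub_add_cancel]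
    rw [e, A.jd.el_add, A.smul (v 3) y, A.smul (v 3) e3, ← hy, ← hx, conj_pow]
    group
  obtain ⟨M, hM, hMv⟩ := A.jd.norm_sim S.t hnorm
  obtain ⟨μ, -, hMq, hMb⟩ := isSim_mult hM
  have hM0 : M.mulVec e0 = e0 := A.jd.el_inj (by rw [← hMv, A.z_eq, htz.eq, mul_inv_cancel_right])
  obtain ⟨α, hα⟩ : ∃ α : ZMod 3, M.mulVec e1 = α • e0 - e1 := by
    obtain ⟨α, hα⟩ := A.exists_line (S.t_inv _ A.e1_mem)
    rw [hMv, ← A.jd.el_add] at hα
    exact ⟨α, eq_sub_of_add_eq (A.jd.el_inj hα)⟩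
  have hM2 : M.mulVec e2 = e2 := A.jd.el_inj (by rw [← hMv, (hct _ A.e2_mem).eq, mul_inv_cancel_right])
  have hM33 : (M.mulVec e3) 3 = 1 := by
    have h := hq
    rw [hMv, ← A.neg, ← A.jd.el_add, A.jd.Q_J, Pi.add_apply, Pi.neg_apply, add_neg_eq_zero] at h
    exact h
  obtain ⟨q, c, d, hw⟩ : ∃ q c d : ZMod 3, M.mulVec e3 = ![q, c, d, 1] := by
    refine ⟨(M.mulVec e3) 0, (M.mulVec e3) 1, (M.mulVec e3) 2, funext fun i => ?_⟩
    fin_cases i
    · rfl
    · rfl
    · rfl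
    · exact hM33
  have hμ : μ = 1 := by
    have h := hMb e0 e3
    rw [hM0, hw, (tr_facts 0 0 0).1.2.1, mul_one] at h
    rw [← h]
    simp [bf, e0]
  obtain ⟨s, hs⟩ := reflection_check α q c d (by rw [← hw, hMq, show qf e3 = 0 by decide, mul_zero])
    (by
      have h := hMb e2 e3
      rwa [hM2, hw, (tr_facts 0 0 0).1.2.2.2, mul_zero] at h)
    (by
      have h := hMb e1 e3
      rwa [hα, hw, (tr_facts 0 0 0).1.2.2.1, mul_zero] at h)
  refine ⟨s, fun v => ?_⟩
  rw [hMv, ← hs v]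
  conv_lhs => rw [basis_sum ((trM s 0).mulVec v)]
  simp only [Matrix.mulVec_add, Matrix.mulVec_smul, hM0, hα, hM2, hw]

end Axes

/-- Coordinates in which the involutions are the reflections. -/
theorem Setup.exists_axes (S : Setup G) (hP : Pt S.Q S.z) :
    ∃ el : V4 → G, Axes S el ∧ (∀ v, S.t * el v * S.t⁻¹ = el (refl1 v)) ∧
      ∀ v, S.t' * el v * S.t'⁻¹ = el (refl2 v) := by
  obtain ⟨u, b⟩ := S.exists_base hP
  obtain ⟨a, haz, haQ⟩ := S.exists_axis hP b
  obtain ⟨el, J, h0, hJ, h3, hae⟩ := b.exists_jData_at a haz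
  have hn : ∀ v, el (-v) = (el v)⁻¹ := fun v => eq_inv_of_mul_eq_one_left (by
    rw [← J.el_add, neg_add_cancel]
    exact mul_eq_left.1 ((J.el_add 0 0).symm.trans (by rw [add_zero])))
  have hsmul : ∀ (k : ZMod 3) (v : V4), el (k • v) = el v ^ k.val := fun k v => by
    rw [← el_natCast_smul el J.el_add k.val v, ZMod.natCast_rightInverse]
  have he1 : el e1 ∈ S.Q1 := by
    rw [← mul_inv_cancel_left (a : G) (el e1)]
    exact mul_mem haQ (zpowers_le.2 S.z_mem1 hae)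
  have hzc : ∀ c : ZMod 3, el (c • e0) ∈ zpowers S.z := fun c => by
    rw [hsmul]
    refine pow_mem ?_ _
    rcases h0 with e | e <;> rw [e]
    exacts [mem_zpowers _, inv_mem (mem_zpowers _)]
  have hzel : ∀ {x : G}, x ∈ zpowers S.z → ∃ c : ZMod 3, x = el (c • e0) := fun {x} hx => by
    obtain ⟨k, rfl⟩ := Local.exists_pw S.core hx
    rcases h0 with e | e
    · exact ⟨k, by rw [hsmul, e]; rfl⟩
    · refine ⟨-k, ?_⟩
      rw [hsmul, e, inv_pow]
      show pw S.z k = (pw S.z (-k))⁻¹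
      rw [Co2Three.pw_neg (Local.z_cube S.core), inv_inv]
  have hpres : S.Pres u := S.pres_of_three (n := 1) b.com (by rw [pow_one]; exact b.z'3)
  -- the mover of the first axis lies in the first factor, so the second axis is orthogonal to it
  have he2 : el e2 ∈ S.Q2 := by
    obtain ⟨x, hxz, hx⟩ := S.swap.exists_axis hP b
    obtain ⟨w, hw⟩ := (hJ _).1 (b.A_le_J x.2)
    replace hx : el w ∈ S.Q2 := hw.symm ▸ hx
    replace hxz : el w ∉ zpowers S.z := hw.symm ▸ hxz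
    have hw3 : w 3 = 0 := (J.Q_J w).1 (S.le2 hx)
    obtain ⟨X, -, -, hXm, hXi⟩ := Local.factor S.core S.exp S.le1 S.card1 S.z_mem1 b.com b.z'3 hpres.2.1
      (S.moves hP b.point b.com b.not_mem)
    have he13 : Commute u (el e1) := by
      rw [← h3, Commute, SemiconjBy, ← J.el_add, ← J.el_add, add_comm]
    obtain ⟨r, hr, c, hc, hre⟩ := hXi (el e1) ((hXm _).2 ⟨he1, by
      rw [commutatorElement_eq_one_iff_mul_comm.2 he13.eq]; exact one_mem _⟩)
    obtain ⟨k, hk⟩ := hzel hc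
    have hru : r * el e3 * r⁻¹ = el (k • e0 - e1 + e3) := by
      have h1 : r * u * r⁻¹ = c * (el e1)⁻¹ * u := by
        rw [hre]; simp only [commutatorElement_def]; group
      rw [h3, h1, J.el_add, sub_eq_add_neg, J.el_add, hn, h3, hk]
    have hrz : Commute r S.z := mem_centralizer_singleton_iff.1 (S.le (S.le1 hr))
    have hnorm : ∀ v, ∃ w, r * el v * r⁻¹ = el w := fun v => by
      obtain ⟨y, hy⟩ := (hJ _).1 ((b.normalise_iff hrz).2 ⟨_, (J.Q_J (k • e0 - e1)).2 (by simp [e0, e1]), 1,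
        one_ne_zero, by rw [pw_one, ← h3, hru, J.el_add]⟩ (el v) ((hJ _).2 ⟨v, rfl⟩))
      exact ⟨y, hy.symm⟩
    obtain ⟨M, hM, hMv⟩ := J.norm_sim r hnorm
    have hlow : ∀ v : V4, v 3 = 0 → ∃ t : ZMod 3, M.mulVec v = t • e0 + v := fun v hv => by
      obtain ⟨t, ht⟩ := hzel (S.core.comm r (S.le1 hr) _ ((J.Q_J v).2 hv))
      refine ⟨t, J.el_inj ?_⟩
      rw [← hMv, J.el_add, ← ht]
      group
    have hM0 : M.mulVec e0 = e0 := J.el_inj (by
      rw [← hMv]
      refine mul_inv_eq_iff_eq_mul.2 ?_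
      rcases h0 with e | e <;> rw [e]
      exacts [hrz.eq, hrz.inv_right.eq])
    obtain ⟨i, hi⟩ := hlow e1 (by decide)
    obtain ⟨l, hl⟩ := hlow e2 (by decide)
    have hM3 : M.mulVec e3 = ![k, -1, 0, 1] := J.el_inj (by
      rw [← hMv, hru]
      congr 1
      exact (by decide +kernel : ∀ k : ZMod 3, k • e0 - e1 + e3 = (![k, -1, 0, 1] : V4)) k)
    have hk1 : k = 1 := mover_facts.1 k (by
      obtain ⟨μ, -, hMq, -⟩ := isSim_mult hM
      rw [← hM3, hMq, show qf e3 = 0 by decide, mul_zero])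
    rw [hk1, show (![1, -1, 0, 1] : V4) = ![(-1) * (-1) + 0 * 0, -1, 0, 1] by decide] at hM3
    have hMw : M.mulVec w = w := J.el_inj (by
      rw [← hMv, (S.comm12 r hr _ hx).eq, mul_inv_cancel_right])
    rw [eq_trM hM hM0 hi hl hM3] at hMw
    have hw1 := mover_facts.2 w hMw hw3
    have hw2 : w 2 ≠ 0 := fun h => hxz (by
      have e := basis_sum w
      rw [hw3, hw1, h, zero_smul, zero_smul, zero_smul, add_zero, add_zero, add_zero] at e
      rw [e]
      exact hzc _)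
    rw [span_facts w hw3 hw1 hw2, J.el_add, hsmul]
    exact mul_mem (pow_mem hx _) (zpowers_le.2 S.z_mem2 (hzc _))
  -- the central element with the right sign
  obtain ⟨el', A⟩ : ∃ el', Axes S el' := by
    rcases h0 with e | e
    · exact ⟨el, e, J, he1, he2, h3 ▸ b.point⟩
    · have hR : ∀ v : V4, (-1 : Matrix (Fin 4) (Fin 4) (ZMod 3)).mulVec v = -v := fun v => by
        rw [Matrix.neg_mulVec, Matrix.one_mulVec]
      refine ⟨fun v => el ((-1 : Matrix (Fin 4) (Fin 4) (ZMod 3)).mulVec v), ?_,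
        J.comp (fun v => by rw [hR, hR, neg_neg]) (fun v => by rw [hR, hR, neg_neg])
          (fun v => by rw [hR]; exact (neg_facts.2 v).1) (fun v => by rw [hR]; exact (neg_facts.2 v).2)
          (Or.inr (hR e0)) (fun M hM => by rw [neg_facts.1 M]; exact hM), ?_, ?_, ?_⟩
      · show el _ = S.z
        rw [hR, hn, e, inv_inv]
      · show el _ ∈ S.Q1
        rw [hR, hn]; exact S.Q1.inv_mem he1
      · show el _ ∈ S.Q2
        rw [hR, hn]; exact S.Q2.inv_mem he2
      · show IsPoint S.z (el _)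
        rw [hR, hn, h3]
        exact b.point.inv
  -- both reflections
  obtain ⟨s, hs⟩ := A.exists_t
  obtain ⟨r, hr⟩ := A.swap.exists_t
  refine ⟨_, A.change s r rfl, fun v => ?_, fun v => ?_⟩
  · show S.t * el' ((trM s r).mulVec v) * S.t⁻¹ = el' ((trM s r).mulVec (refl1 v))
    rw [(tr_refl s r v).1, (tr_refl s r (refl1 v)).1, (tr_refl s r v).2.1]
    exact hs _
  · show S.t' * el' ((trM s r).mulVec v) * S.t'⁻¹ = el' ((trM s r).mulVec (refl2 v))
    rw [(tr_refl s r v).2.2.1, (tr_refl s r (refl2 v)).2.2.1]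
    refine (hr (swapM.mulVec ((trM s 0).mulVec v))).trans ?_
    show el' (swapM.mulVec ((trM r 0).mulVec _)) = _
    have h := (tr_refl 0 0 ((trM s 0).mulVec v)).2.2.2.1
    rw [← (tr_refl s 0 v).2.2.2.2] at h
    rw [← h, (swap_vec _).2.2]

end Cfsg.Agent.U62Three
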