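import Cfsg.Agent.Lib.U62Three.Local.Axes
import Mathlib.GroupTheory.Sylow
import Mathlib.GroupTheory.Nilpotent

/-!
The centraliser of the subgroup of order 81: it is abelian of order 81 or 243, covers the stabiliser of the axes
modulo the core, is the only abelian subgroup of its order in a 3-group containing it and its normaliser controls
the fusion of its elements. The centraliser of the central element and of the first involution.
-/

set_option autoImplicit false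
set_option maxRecDepth 20000
set_option linter.style.haveILetI false
set_option linter.unusedSectionVars false
set_option linter.unusedVariables false

namespace Cfsg.Agent.U62Three

open Subgroup
open scoped commutatorElement MatrixGroups
open Co2Three (V4 qf bf e0 e1 e2 e3 IsSim isSim_mult IsPoint refl1 pw pw_zero pw_one)

variable {G : Type*} [Group G] [Finite G]

/-- Inside the centraliser of the central element the centraliser of the part of the core fixed by a point is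
abelian of exponent three. -/
def CentHyp (S : Setup G) : Prop :=
  ∀ y : G, IsPoint S.z y → Commute y S.z → y ∉ S.Q → ∀ x x' : G, Commute x S.z → Commute x' S.z →
    (∀ q ∈ S.Q, Commute q y → Commute x q) → (∀ q ∈ S.Q, Commute q y → Commute x' q) →
    Commute x x' ∧ x ^ 3 = 1

/-- The centraliser of the subgroup given by coordinates. -/
def centK (el : V4 → G) : Subgroup G := centralizer (Set.range el)

theorem mem_centK {el : V4 → G} {g : G} : g ∈ centK el ↔ ∀ v, Commute g (el v) :=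
  ⟨fun h v => (mem_centralizer_iff.1 h _ ⟨v, rfl⟩).symm,
    fun h => mem_centralizer_iff.2 (by rintro _ ⟨v, rfl⟩; exact (h v).eq.symm)⟩

theorem cent_facts : (∀ w : V4, qf w = 0 → w 3 = 1 → w = ![w 1 * w 1 + w 2 * w 2, w 1, w 2, 1]) ∧
    (∀ w : V4, bf w e0 = 0 → bf w e2 = 0 → bf w e3 = 0 → w = w 1 • e1) ∧
    bf e0 e3 = 1 ∧ bf e1 e0 = 0 ∧ bf e1 e2 = 0 ∧ bf e1 e3 = 0 ∧ refl1 e1 ≠ e1 := by decide +kernel

theorem singular_span : ∀ v : V4, ∃ a : V4, qf a = 0 ∧ qf (v - a) = 0 := by decide +kernel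

theorem card_hyp : Nat.card {v : V4 // v 3 = 0} = 27 := by
  rw [Nat.card_eq_fintype_card]
  decide +kernel

namespace Axes

variable {S : Setup G} {el : V4 → G}

theorem base (A : Axes S el) : Base S.Q S.z (el e3) :=
  ⟨A.pt, A.point, A.e3_com, fun h => A.e3_not (A.pt.core.zpowers_le_Q h)⟩

theorem com_z (A : Axes S el) (v : V4) : Commute (el v) S.z := A.z_eq ▸ A.comm v e0

theorem split_e3 (A : Axes S el) (v : V4) :
    el v = el (v - v 3 • e3) * pw (el e3) (v 3) ∧ (v - v 3 • e3) 3 = 0 := by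
  refine ⟨?_, by simp [e3]⟩
  rw [pw, ← A.smul, ← A.jd.el_add, sub_add_cancel]

theorem mem_A_iff (A : Axes S el) {x : G} : x ∈ A.base.A ↔ ∃ v : V4, v 3 = 0 ∧ x = el v := by
  have hmem : ∀ v : V4, v 3 = 0 → el v ∈ A.base.A := fun v hv =>
    ⟨(A.jd.Q_J v).2 hv, mem_centralizer_singleton_iff.2 (A.comm v e3).eq⟩
  refine ⟨fun hx => ?_, fun ⟨v, hv, e⟩ => e ▸ hmem v hv⟩
  let f : {v : V4 // v 3 = 0} → A.base.A := fun v => ⟨el v, hmem v v.2⟩
  have hf : Function.Bijective f := (Nat.bijective_iff_injective_and_card f).2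
    ⟨fun u v h => Subtype.ext (A.jd.el_inj (congrArg Subtype.val h)), by rw [card_hyp, A.base.card_A]⟩
  obtain ⟨v, hv⟩ := hf.2 ⟨x, hx⟩
  exact ⟨v, v.2, (congrArg Subtype.val hv).symm⟩

theorem mem_J_iff (A : Axes S el) {x : G} : x ∈ A.base.J ↔ ∃ v, x = el v := by
  constructor
  · rintro ⟨a, ha, k, rfl⟩
    obtain ⟨v, -, rfl⟩ := A.mem_A_iff.1 ha
    exact ⟨v + k • e3, by rw [A.jd.el_add, A.smul]; rfl⟩
  · rintro ⟨v, rfl⟩
    exact ⟨_, A.mem_A_iff.2 ⟨_, (A.split_e3 v).2, rfl⟩, _, (A.split_e3 v).1⟩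

theorem K_com_z (A : Axes S el) {g : G} (hg : g ∈ centK el) : Commute g S.z := A.z_eq ▸ mem_centK.1 hg e0

theorem el_mem_K (A : Axes S el) (v : V4) : el v ∈ centK el := mem_centK.2 (A.comm v)

theorem K_fix (A : Axes S el) {g : G} (hg : g ∈ centK el) (v : V4) : ⁅g, el v⁆ ∈ zpowers S.z := by
  rw [commutatorElement_eq_one_iff_mul_comm.2 (mem_centK.1 hg v).eq]
  exact one_mem _

theorem K_pres (A : Axes S el) {g : G} (hg : g ∈ centK el) : S.Pres g :=
  S.pres_of_fix (A.K_com_z hg) (Or.inl A.e1_mem) A.e1_not (A.K_fix hg e1)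

theorem K_hyp (A : Axes S el) {x : G} (hx : x ∈ centK el) :
    ∀ q ∈ S.Q, Commute q (el e3) → Commute x q := by
  intro q hq hqy
  obtain ⟨v, -, rfl⟩ := A.mem_A_iff.1 (⟨hq, mem_centralizer_singleton_iff.2 hqy.eq⟩ : q ∈ A.base.A)
  exact mem_centK.1 hx v

theorem K_comm (A : Axes S el) (hK : CentHyp S) {x x' : G} (hx : x ∈ centK el) (hx' : x' ∈ centK el) :
    Commute x x' :=
  (hK _ A.point A.e3_com A.e3_not x x' (A.K_com_z hx) (A.K_com_z hx') (A.K_hyp hx) (A.K_hyp hx')).1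

theorem K_exp (A : Axes S el) (hK : CentHyp S) {x : G} (hx : x ∈ centK el) : x ^ 3 = 1 :=
  (hK _ A.point A.e3_com A.e3_not x x (A.K_com_z hx) (A.K_com_z hx) (A.K_hyp hx) (A.K_hyp hx)).2

theorem mem_K_of (A : Axes S el) (hK : CentHyp S) {x : G} (hx : Commute x S.z)
    (h : ∀ v : V4, v 3 = 0 → Commute x (el v)) : x ∈ centK el := by
  have hy : Commute x (el e3) := (hK _ A.point A.e3_com A.e3_not x (el e3) hx A.e3_com
    (fun q hq hqy => by
      obtain ⟨v, hv, rfl⟩ := A.mem_A_iff.1 (⟨hq, mem_centralizer_singleton_iff.2 hqy.eq⟩ : q ∈ A.base.A)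
      exact h v hv)
    fun q _ hqy => hqy.symm).1
  refine mem_centK.2 fun v => ?_
  rw [(A.split_e3 v).1]
  exact (h _ (A.split_e3 v).2).mul_right (hy.pow_right _)

theorem K_Q (A : Axes S el) {x : G} (hx : x ∈ centK el) (hq : x ∈ S.Q) : ∃ v, v 3 = 0 ∧ x = el v := by
  obtain ⟨v, rfl⟩ := A.jd.cent_core x hq (mem_centK.1 hx)
  exact ⟨v, (A.jd.Q_J v).1 hq, rfl⟩

theorem inf_Q (A : Axes S el) : centK el ⊓ S.Q = A.base.A := by
  ext x
  refine ⟨fun h => A.mem_A_iff.2 (A.K_Q h.1 h.2), fun h => ⟨?_, h.1⟩⟩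
  obtain ⟨v, -, rfl⟩ := A.mem_A_iff.1 h
  exact A.el_mem_K v

theorem normK (A : Axes S el) {g : G} (h : ∀ v, ∃ w, g * el v * g⁻¹ = el w) {k : G} (hk : k ∈ centK el) :
    g * k * g⁻¹ ∈ centK el := by
  choose f hf using h
  have hs : Function.Surjective f := Finite.injective_iff_surjective.1 fun u v e =>
    A.jd.el_inj (mul_left_cancel (mul_right_cancel (show g * el u * g⁻¹ = g * el v * g⁻¹ by rw [hf, hf, e])))
  refine mem_centK.2 fun w => ?_
  obtain ⟨v, rfl⟩ := hs w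
  rw [← hf v]
  have := (mem_centK.1 hk v).map (MulAut.conj g).toMonoidHom
  exact this

/-- An element fixing the axes and the opposite coset acts as a translation. -/
theorem exists_mat (A : Axes S el) {x : G} (hx : Commute x S.z) (h1 : ⁅x, el e1⁆ ∈ zpowers S.z)
    (h2 : ⁅x, el e2⁆ ∈ zpowers S.z) (h3 : ⁅x, el e3⁆ ∈ S.Q) :
    ∃ a b, x * el e3 * x⁻¹ = el ![a * a + b * b, a, b, 1] ∧
      ∀ v, x * el v * x⁻¹ = el ((trM a b).mulVec v) := by
  have hnorm : ∀ v, ∃ w, x * el v * x⁻¹ = el w := fun v =>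
    A.mem_J_iff.1 ((A.base.normalise_iff hx).2 ⟨_, h3, 1, one_ne_zero, by
      rw [pw_one, commutatorElement_def]; group⟩ _ (A.mem_J_iff.2 ⟨v, rfl⟩))
  obtain ⟨M, hM, hMv⟩ := A.jd.norm_sim x hnorm
  obtain ⟨μ, -, hMq, -⟩ := isSim_mult hM
  have hM0 : M.mulVec e0 = e0 := A.jd.el_inj (by rw [← hMv, A.z_eq, hx.eq, mul_inv_cancel_right])
  have hlow : ∀ v, ⁅x, el v⁆ ∈ zpowers S.z → ∃ i : ZMod 3, M.mulVec v = i • e0 + v := fun v hv => by
    obtain ⟨i, hi⟩ := A.exists_line hv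
    exact ⟨i, A.jd.el_inj (by rw [← hMv, A.jd.el_add, ← hi, commutatorElement_def]; group)⟩
  obtain ⟨i, hi⟩ := hlow e1 h1
  obtain ⟨j, hj⟩ := hlow e2 h2
  have h33 : (M.mulVec e3) 3 = 1 := by
    have h := h3
    rw [commutatorElement_def, hMv, ← A.neg, ← A.jd.el_add, A.jd.Q_J, Pi.add_apply, Pi.neg_apply,
      add_neg_eq_zero] at h
    exact h
  have hw := cent_facts.1 _ (by rw [hMq, show qf e3 = 0 by decide, mul_zero]) h33
  exact ⟨_, _, (hMv e3).trans (congrArg el hw), fun v =>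
    (hMv v).trans (congrArg (fun N => el (N.mulVec v)) (eq_trM hM hM0 hi hj hw))⟩

/-- The stabiliser of the axes is covered by the core and the centraliser. -/
theorem exists_QK (A : Axes S el) {x : G} (hx : Commute x S.z) (h1 : ⁅x, el e1⁆ ∈ zpowers S.z)
    (h2 : ⁅x, el e2⁆ ∈ zpowers S.z) : ∃ q ∈ S.Q, ∃ k ∈ centK el, x = q * k := by
  have hy1 : ∀ v, ⁅el e3, el v⁆ ∈ zpowers S.z := fun v => by
    rw [commutatorElement_eq_one_iff_mul_comm.2 (A.comm e3 v).eq]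
    exact one_mem _
  obtain ⟨a, b, -, hv⟩ := A.exists_mat hx h1 h2
    (S.comm_of_fix A.e1_mem A.e2_mem A.e1_not A.e2_not hx h1 h2 A.e3_com (hy1 e1) (hy1 e2))
  obtain ⟨y, hy, k, hk⟩ := A.base.exists_move
    (A.mem_A_iff.2 ⟨![0, a, b, 0], rfl, rfl⟩ : el ![0, a, b, 0] ∈ A.base.A)
  have hyz : Commute y S.z := A.pt.commute_z hy
  have hyc : ⁅y, el e3⁆ ∈ S.Q := by
    rw [commutatorElement_def,
      show y * el e3 * y⁻¹ * (el e3)⁻¹ = y * (el e3 * y⁻¹ * (el e3)⁻¹) by group]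
    exact mul_mem hy (S.normal' A.e3_com (inv_mem hy))
  obtain ⟨a', b', he, hv'⟩ := A.exists_mat hyz (A.pt.core.comm y hy _ ((A.jd.Q_J e1).2 (by decide)))
    (A.pt.core.comm y hy _ ((A.jd.Q_J e2).2 (by decide))) hyc
  have hk' : y * el e3 * y⁻¹ = el ![k, a, b, 1] := by
    rw [hk, ← (pt_facts ![0, a, b, 0] k a b).1 rfl, A.jd.el_add, A.jd.el_add, A.smul, A.z_eq]
    rfl
  have e := A.jd.el_inj (he.symm.trans hk')
  obtain rfl : a' = a := congrFun e 1
  obtain rfl : b' = b := congrFun e 2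
  refine ⟨y, hy, y⁻¹ * x, mem_centK.2 fun v => mul_inv_eq_iff_eq_mul.1 ?_, (mul_inv_cancel_left _ _).symm⟩
  rw [show y⁻¹ * x * el v * (y⁻¹ * x)⁻¹ = y⁻¹ * (x * el v * x⁻¹) * y by group, hv, ← hv']
  group

/-- The stabiliser of the factors. -/
theorem exists_PQK (A : Axes S el) {g : G} (hg : S.Pres g) :
    ∃ p ∈ S.P, ∃ p' ∈ S.P', ∃ q ∈ S.Q, ∃ k ∈ centK el, g = p * p' * q * k := by
  obtain ⟨p, hp, p', hp', x, rfl, hx, h1, h2⟩ := S.exists_decomp A.e1_mem A.e2_mem A.e1_not A.e2_not hg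
  obtain ⟨q, hq, k, hk, rfl⟩ := A.exists_QK hx h1 h2
  exact ⟨p, hp, p', hp', q, hq, k, hk, (mul_assoc _ _ _).symm⟩

/-- The action on the two factors modulo the centre. -/
theorem exists_act (A : Axes S el) : ∃ f : S.presGrp →* SL(2, ZMod 3) × SL(2, ZMod 3),
    (∀ x, f x = 1 ↔ (x : G) ∈ S.Q) ∧ ∀ x : S.presGrp, (x : G) ∈ centK el →
      ((f x).1.1 0 0 = 1 ∧ (f x).1.1 1 0 = 0) ∧ ((f x).2.1 0 0 = 1 ∧ (f x).2.1 1 0 = 0) := by
  obtain ⟨r₁, P₁⟩ := S.exists_plane₁ A.e1_mem A.e1_not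
  obtain ⟨r₂, P₂⟩ := S.swap.exists_plane₁ A.e2_mem A.e2_not
  have h₁ : ∀ g ∈ S.presGrp, Commute g S.z ∧ ∀ q ∈ S.Q1, g * q * g⁻¹ ∈ S.Q1 :=
    fun g (hg : S.Pres g) => ⟨hg.1, hg.2.1⟩
  have h₂ : ∀ g ∈ S.presGrp, Commute g S.swap.z ∧ ∀ q ∈ S.swap.Q1, g * q * g⁻¹ ∈ S.swap.Q1 :=
    fun g (hg : S.Pres g) => ⟨hg.1, hg.2.2⟩
  refine ⟨(P₁.act S.presGrp h₁).prod (P₂.act S.presGrp h₂), fun x => ?_, fun x hx =>
    ⟨P₁.act_fix h₁ x (A.K_fix hx e1), P₂.act_fix h₂ x (A.K_fix hx e2)⟩⟩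
  rw [MonoidHom.prod_apply, Prod.mk_eq_one, P₁.act_eq_one, P₂.act_eq_one]
  exact ⟨fun h => S.mem_Q_of_trivial (x.2 : S.Pres x).1 h.1 h.2,
    fun h => ⟨fun q hq => A.pt.core.comm _ h q (S.le1 hq), fun q hq => A.pt.core.comm _ h q (S.le2 hq)⟩⟩

theorem card_eq_map (A : Axes S el) {f : S.presGrp →* SL(2, ZMod 3) × SL(2, ZMod 3)}
    (hf : ∀ x, f x = 1 ↔ (x : G) ∈ S.Q) {H : Subgroup G} (hH : H ≤ S.presGrp) :
    Nat.card H = Nat.card ↥(H ⊓ S.Q) * Nat.card ↥((H.subgroupOf S.presGrp).map f) := by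
  set f' := f.comp (inclusion hH)
  have hr : f'.range = (H.subgroupOf S.presGrp).map f := by
    ext m
    exact ⟨fun ⟨h, e⟩ => ⟨inclusion hH h, h.2, e⟩, fun ⟨x, hx, e⟩ => ⟨⟨x, hx⟩, e⟩⟩
  have hk : Nat.card f'.ker = Nat.card ↥(H ⊓ S.Q) := Nat.card_congr
    { toFun := fun x => ⟨x.1.1, x.1.2, (hf _).1 x.2⟩
      invFun := fun x => ⟨⟨x.1, x.2.1⟩, (hf _).2 x.2.2⟩
      left_inv := fun _ => rfl
      right_inv := fun _ => rfl }
  have h := f'.ker.card_mul_index
  rw [index_ker, hr, hk] at h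
  exact h.symm

theorem K_le_pres (A : Axes S el) : centK el ≤ S.presGrp := fun _ hk => A.K_pres hk

theorem K_card (A : Axes S el) (hK : CentHyp S) : Nat.card (centK el) = 81 ∨ Nat.card (centK el) = 243 := by
  obtain ⟨f, hf, hfix⟩ := A.exists_act
  have h := A.card_eq_map hf A.K_le_pres
  rw [A.inf_Q, A.base.card_A] at h
  set R := ((centK el).subgroupOf S.presGrp).map f
  have hR : Nat.card R ≤ 9 := by
    have hu : ∀ m : R, (m.1.1.1 0 0 = 1 ∧ m.1.1.1 1 0 = 0) ∧ (m.1.2.1 0 0 = 1 ∧ m.1.2.1 1 0 = 0) := fun m => by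
      obtain ⟨x, hx, e⟩ := mem_map.1 m.2
      exact e ▸ hfix x hx
    have huni : ∀ a b : SL(2, ZMod 3), (a.1 0 0 = 1 ∧ a.1 1 0 = 0) → (b.1 0 0 = 1 ∧ b.1 1 0 = 0) →
        a.1 0 1 = b.1 0 1 → a = b := fun a b ⟨a0, a1⟩ ⟨b0, b1⟩ h => by
      have ha := a.2
      have hb := b.2
      rw [Matrix.det_fin_two, a0, a1, mul_zero, sub_zero, one_mul] at ha
      rw [Matrix.det_fin_two, b0, b1, mul_zero, sub_zero, one_mul] at hb
      refine Subtype.ext (Matrix.ext fun i j => ?_)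
      fin_cases i <;> fin_cases j
      · exact a0.trans b0.symm
      · exact h
      · exact a1.trans b1.symm
      · exact ha.trans hb.symm
    have := Nat.card_le_card_of_injective (fun m : R => (m.1.1.1 0 1, m.1.2.1 0 1)) fun m n e =>
      Subtype.ext (Prod.ext (huni _ _ (hu m).1 (hu n).1 (Prod.ext_iff.1 e).1)
        (huni _ _ (hu m).2 (hu n).2 (Prod.ext_iff.1 e).2))
    simpa [Nat.card_prod] using this
  have h81 : 81 ≤ Nat.card (centK el) := by
    have := Nat.card_le_card_of_injective (fun v : V4 => (⟨el v, A.el_mem_K v⟩ : centK el))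
      fun u v e => A.jd.el_inj (congrArg Subtype.val e)
    simpa using this
  have hP : IsPGroup 3 (centK el) := fun x => ⟨1, Subtype.ext (by simpa using A.K_exp hK x.2)⟩
  haveI : Fact (Nat.Prime 3) := ⟨by norm_num⟩
  obtain ⟨n, hn⟩ := IsPGroup.iff_card.1 hP
  have h4 : 4 ≤ n := (Nat.pow_le_pow_iff_right (show 1 < 3 by norm_num)).1
    (show 3 ^ 4 ≤ 3 ^ n by rw [← hn]; exact h81)
  have h5 : n ≤ 5 := (Nat.pow_le_pow_iff_right (show 1 < 3 by norm_num)).1
    (show 3 ^ n ≤ 3 ^ 5 by rw [← hn, h]; omega)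
  rw [hn]
  interval_cases n
  · exact Or.inl rfl
  · exact Or.inr rfl

/-- The product of the core and the centraliser. -/
def QK (A : Axes S el) : Subgroup G where
  carrier := {x | ∃ q ∈ S.Q, ∃ k ∈ centK el, x = q * k}
  one_mem' := ⟨1, one_mem _, 1, one_mem _, (one_mul 1).symm⟩
  mul_mem' := by
    rintro _ _ ⟨q, hq, k, hk, rfl⟩ ⟨q', hq', k', hk', rfl⟩
    exact ⟨q * (k * q' * k⁻¹), mul_mem hq (S.normal' (A.K_com_z hk) hq'), k * k', mul_mem hk hk', by group⟩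
  inv_mem' := by
    rintro _ ⟨q, hq, k, hk, rfl⟩
    exact ⟨k⁻¹ * q⁻¹ * k⁻¹⁻¹, S.normal' (A.K_com_z hk).inv_left (inv_mem hq), k⁻¹, inv_mem hk, by group⟩

theorem K_le_QK (A : Axes S el) : centK el ≤ A.QK := fun k hk => ⟨1, one_mem _, k, hk, (one_mul k).symm⟩

theorem Q_le_QK (A : Axes S el) : S.Q ≤ A.QK := fun q hq => ⟨q, hq, 1, one_mem _, (mul_one q).symm⟩

theorem QK_pres (A : Axes S el) : A.QK ≤ S.presGrp := by
  rintro _ ⟨q, hq, k, hk, rfl⟩
  exact (S.pres_Q hq).mul S (A.K_pres hk)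

theorem isPGroup_QK (A : Axes S el) (hK : CentHyp S) : IsPGroup 3 A.QK := by
  rintro ⟨_, q, hq, k, hk, rfl⟩
  refine ⟨2, Subtype.ext ?_⟩
  have h3 : (q * k) ^ 3 ∈ S.Q := by
    rw [show (q * k) ^ 3 = q * (k * q * k⁻¹) * (k * k * q * (k * k)⁻¹) * k ^ 3 by
      simp only [pow_succ, pow_zero, one_mul]; group, A.K_exp hK hk, mul_one]
    exact mul_mem (mul_mem hq (S.normal' (A.K_com_z hk) hq))
      (S.normal' ((A.K_com_z hk).mul_left (A.K_com_z hk)) hq)
  show (q * k) ^ (3 ^ 2) = 1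
  rw [show 3 ^ 2 = 3 * 3 from rfl, pow_mul]
  exact S.exp _ h3

theorem le_QK (A : Axes S el) {U : Subgroup G} (hU : IsPGroup 3 U) (hUz : U ≤ centralizer {S.z})
    (hKU : centK el ≤ U) : U ≤ A.QK := by
  intro x hx
  have hxz : Commute x S.z := mem_centralizer_singleton_iff.1 (hUz hx)
  obtain ⟨n, hn⟩ := hU ⟨x, hx⟩
  obtain ⟨p, hp, p', hp', q, hq, k, hk, e⟩ := A.exists_PQK (S.pres_of_three hxz (congrArg Subtype.val hn))
  have hW : IsPGroup 3 ↥(U ⊔ S.Q) := hU.to_sup_of_normal_right'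
    (fun q => ⟨1, Subtype.ext (by simpa using S.exp q q.2)⟩)
    fun u hu => mem_normalizer_iff.2 fun q => by
      have hc : Commute u S.z := mem_centralizer_singleton_iff.1 (hUz hu)
      refine ⟨fun h => S.normal' hc h, fun h => ?_⟩
      have := S.normal' hc.inv_left h
      rwa [show u⁻¹ * (u * q * u⁻¹) * u⁻¹⁻¹ = q by group] at this
  have hmem : p * p' ∈ U ⊔ S.Q := by
    rw [show p * p' = x * k⁻¹ * q⁻¹ by rw [e]; group]
    exact mul_mem (mem_sup_left (mul_mem hx (inv_mem (hKU hk)))) (mem_sup_right (inv_mem hq))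
  obtain ⟨m, hm⟩ := hW ⟨_, hmem⟩
  have h8 : (p * p') ^ 8 = 1 := by
    have h2 : p' ^ 8 = 1 := S.swap.P_pow hp'
    rw [(S.PP'_comm p hp p' hp').mul_pow, S.P_pow hp, h2, one_mul]
  have h1 : p * p' = 1 := orderOf_eq_one_iff.1 (Nat.eq_one_of_dvd_coprimes
    (Nat.Coprime.pow_right m (by norm_num : Nat.Coprime 8 3))
    (orderOf_dvd_of_pow_eq_one h8) (orderOf_dvd_of_pow_eq_one (congrArg Subtype.val hm)))
  exact ⟨q, hq, k, hk, by rw [e, h1, one_mul]⟩

/-- The product is a Sylow subgroup. -/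
theorem exists_sylow (A : Axes S el) (hK : CentHyp S) : ∃ U : Sylow 3 G, (U : Subgroup G) = A.QK := by
  haveI : Fact (Nat.Prime 3) := ⟨by norm_num⟩
  obtain ⟨U, hU⟩ := (A.isPGroup_QK hK).exists_le_sylow
  refine ⟨U, le_antisymm ?_ hU⟩
  by_contra hlt
  have hne : A.QK.subgroupOf (U : Subgroup G) < ⊤ := lt_top_iff_ne_top.2 fun h => hlt (subgroupOf_eq_top.1 h)
  haveI : Group.IsNilpotent (U : Subgroup G) := U.2.isNilpotent
  obtain ⟨u, hu, hnot⟩ := SetLike.exists_of_lt (Group.normalizerCondition_of_isNilpotent _ hne)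
  have hconj : ∀ x ∈ A.QK, (u : G) * x * (u : G)⁻¹ ∈ A.QK ∧ (u : G)⁻¹ * x * (u : G) ∈ A.QK := by
    intro x hx
    refine ⟨((mem_normalizer_iff.1 hu ⟨x, hU hx⟩).1 hx : _), ?_⟩
    have h := (mem_normalizer_iff.1 (inv_mem hu) ⟨x, hU hx⟩).1 hx
    simp only [mem_subgroupOf, Subgroup.coe_mul, InvMemClass.coe_inv, inv_inv] at h
    exact h
  have hQKz : ∀ x ∈ A.QK, Commute x S.z := fun x hx => (A.QK_pres hx : S.Pres x).1
  -- the central element is fixed up to inversion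
  have hz1 : (u : G) * S.z * (u : G)⁻¹ ∈ zpowers S.z := by
    have hm := (hconj _ (A.Q_le_QK A.pt.core.mem)).1
    have hc : ∀ q ∈ S.Q, Commute ((u : G) * S.z * (u : G)⁻¹) q := fun q hq => by
      have h := (hQKz _ (hconj q (A.Q_le_QK hq)).2).symm.map (MulAut.conj (u : G)).toMonoidHom
      simpa [mul_assoc] using h
    exact (A.pt.core.centre _ (S.cq _ (hQKz _ hm) hc)).1 fun q hq => (hc q hq).eq
  have huz : Commute (u : G) S.z := by
    have h2 : Commute ((u : G) * u) S.z := by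
      rcases A.pt.zpow_cases hz1 with e | e | e
      · exact absurd (conj_eq_one_iff.1 e) A.pt.z_ne
      · have hc : Commute (u : G) S.z := mul_inv_eq_iff_eq_mul.1 e
        exact hc.mul_left hc
      · refine mul_inv_eq_iff_eq_mul.1 ?_
        calc (u : G) * u * S.z * ((u : G) * u)⁻¹ = (u : G) * ((u : G) * S.z * (u : G)⁻¹) * (u : G)⁻¹ := by group
          _ = ((u : G) * S.z * (u : G)⁻¹)⁻¹ := by conv_lhs => rw [e]
                                                  group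
          _ = S.z := by rw [e, inv_inv]
    obtain ⟨n, hn⟩ := U.2 u
    obtain ⟨k, hk⟩ : ∃ k : ℕ, 3 ^ n + 1 = 2 * k :=
      ⟨(3 ^ n + 1) / 2, (Nat.mul_div_cancel' (Odd.add_one (Odd.pow (by decide))).two_dvd).symm⟩
    have hn' : (u : G) ^ 3 ^ n = 1 := congrArg Subtype.val hn
    have e : (u : G) = ((u : G) * u) ^ k := by
      calc (u : G) = (u : G) ^ (3 ^ n + 1) := by rw [pow_succ, hn', one_mul]
        _ = ((u : G) * u) ^ k := by rw [hk, pow_mul, pow_two]
    rw [e]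
    exact h2.pow_left k
  exact hnot (A.le_QK (U := (U : Subgroup G) ⊓ centralizer {S.z})
    (U.2.to_le inf_le_left) inf_le_right
    (le_inf (A.K_le_QK.trans hU) fun k hk => mem_centralizer_singleton_iff.2 (A.K_com_z hk).eq)
    ⟨u.2, mem_centralizer_singleton_iff.2 huz.eq⟩)

/-- The only abelian subgroup of its order in the Sylow subgroup. -/
theorem eq_K (A : Axes S el) (hK : CentHyp S) {B : Subgroup G} (hB : B ≤ A.QK)
    (hab : ∀ a ∈ B, ∀ b ∈ B, a * b = b * a) (hc : Nat.card B = Nat.card (centK el)) : B = centK el := by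
  obtain ⟨f, hf, -⟩ := A.exists_act
  set p := fun H : Subgroup G => (H.subgroupOf S.presGrp).map f
  have h1 := A.card_eq_map hf A.K_le_pres
  have h2 := A.card_eq_map hf (hB.trans A.QK_pres)
  rw [A.inf_Q, A.base.card_A] at h1
  have hle : p B ≤ p (centK el) := by
    rintro _ ⟨x, hx, rfl⟩
    obtain ⟨q, hq, k, hk, e⟩ := hB hx
    refine ⟨⟨k, A.K_pres hk⟩, hk, ?_⟩
    have ex : x = ⟨q, S.pres_Q hq⟩ * ⟨k, A.K_pres hk⟩ := Subtype.ext e
    rw [ex, map_mul, (hf ⟨q, S.pres_Q hq⟩).2 hq, one_mul]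
  have h27 : Nat.card ↥(B ⊓ S.Q) ≤ 27 :=
    A.pt.core.card_abelian_le inf_le_right fun a ha b hb => hab a ha.1 b hb.1
  have heq : p B = p (centK el) := eq_of_le_of_card_ge hle <| by
    have h := hc.symm.trans h2
    rw [h1] at h
    show Nat.card ↥(((centK el).subgroupOf S.presGrp).map f) ≤ Nat.card ↥((B.subgroupOf S.presGrp).map f)
    by_contra hlt
    push Not at hlt
    have hpos : 0 < Nat.card ↥(B ⊓ S.Q) := Nat.card_pos
    nlinarith
  obtain ⟨x, hx, hxy⟩ : f ⟨el e3, A.K_pres (A.el_mem_K e3)⟩ ∈ p B := by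
    rw [heq]
    exact mem_map_of_mem f (show el e3 ∈ centK el from A.el_mem_K e3)
  have hq : (x : G) * (el e3)⁻¹ ∈ S.Q :=
    (hf (x * (⟨el e3, A.K_pres (A.el_mem_K e3)⟩ : S.presGrp)⁻¹)).1 (by rw [map_mul, map_inv, hxy, mul_inv_cancel])
  have hA : B ⊓ S.Q ≤ A.base.A := fun w hw =>
    A.base.mem_A_of_coset hq (one_ne_zero (α := ZMod 3)) hw.2 (by
      rw [pw_one, inv_mul_cancel_right, commutatorElement_eq_one_iff_mul_comm.2 (hab x hx w hw.1)]
      exact one_mem _)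
  have hBA : B ⊓ S.Q = A.base.A := eq_of_le_of_card_ge hA <| by
    rw [A.base.card_A]
    have h := hc.symm.trans h2
    rw [h1, show ((B.subgroupOf S.presGrp).map f) = p (centK el) from heq] at h
    exact le_of_eq (Nat.eq_of_mul_eq_mul_right Nat.card_pos h)
  refine eq_of_le_of_card_ge (fun b hb => A.mem_K_of hK (A.QK_pres (hB hb) : S.Pres b).1 fun v hv => ?_) hc.ge
  exact hab b hb _ (hBA.ge (A.mem_A_iff.2 ⟨v, hv, rfl⟩)).1

theorem exists_conj_QK (A : Axes S el) (hK : CentHyp S) {R : Subgroup G} (hR : IsPGroup 3 R) :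
    ∃ n : G, R.map (MulAut.conj n).toMonoidHom ≤ A.QK := by
  haveI : Fact (Nat.Prime 3) := ⟨by norm_num⟩
  obtain ⟨U, hU⟩ := A.exists_sylow hK
  obtain ⟨V, hV⟩ := hR.exists_le_sylow
  obtain ⟨n, hn⟩ := MulAction.exists_smul_eq G V U
  refine ⟨n, ?_⟩
  rw [← hU, ← hn, Sylow.coe_subgroup_smul]
  rintro _ ⟨x, hx, rfl⟩
  exact Subgroup.smul_mem_pointwise_smul _ _ _ (hV hx)

theorem K_unique (A : Axes S el) (hK : CentHyp S) (R : Subgroup G) (hR : IsPGroup 3 R) (hKR : centK el ≤ R)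
    (B : Subgroup G) (hB : B ≤ R) (hab : IsMulCommutative B) (hc : Nat.card B = Nat.card (centK el)) :
    B = centK el := by
  obtain ⟨n, hn⟩ := A.exists_conj_QK hK hR
  have hinj : Function.Injective (MulAut.conj n).toMonoidHom := (MulAut.conj n).injective
  have hcard : ∀ H : Subgroup G, Nat.card (H.map (MulAut.conj n).toMonoidHom) = Nat.card H := fun H =>
    (Nat.card_congr (equivMapOfInjective H _ hinj).toEquiv).symm
  have hcom : ∀ H : Subgroup G, (∀ a ∈ H, ∀ b ∈ H, a * b = b * a) →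
      ∀ a ∈ H.map (MulAut.conj n).toMonoidHom, ∀ b ∈ H.map (MulAut.conj n).toMonoidHom, a * b = b * a := by
    rintro H h _ ⟨a, ha, rfl⟩ _ ⟨b, hb, rfl⟩
    rw [← map_mul, ← map_mul, h a ha b hb]
  apply map_injective hinj
  rw [A.eq_K hK ((map_mono hB).trans hn)
      (hcom B fun a ha b hb => congrArg Subtype.val (hab.is_comm.comm ⟨a, ha⟩ ⟨b, hb⟩))
      ((hcard B).trans hc),
    A.eq_K hK ((map_mono hKR).trans hn) (hcom _ fun a ha b hb => (A.K_comm hK ha hb).eq) (hcard _)]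

/-- An element normalising the centraliser normalises the subgroup. -/
theorem norm_of_normK (A : Axes S el) {n : G} (h : ∀ k ∈ centK el, n * k * n⁻¹ ∈ centK el) (v : V4) :
    ∃ w, n * el v * n⁻¹ = el w := by
  have key : ∀ a : V4, qf a = 0 → ∃ w, n * el a * n⁻¹ = el w := by
    intro a ha
    by_cases ha0 : a = 0
    · refine ⟨0, ?_⟩
      rw [ha0, show el 0 = 1 from mul_eq_left.1 ((A.jd.el_add 0 0).symm.trans (by rw [add_zero]))]
      group
    obtain ⟨g, hg⟩ := (A.jd.fused a ha0).2 ha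
    have hxK := h _ (A.el_mem_K a)
    have hxp : IsPoint S.z (n * el a * n⁻¹) := IsPoint.conj ⟨g, Or.inl (A.z_eq ▸ hg)⟩ n
    have hxz : Commute (n * el a * n⁻¹) S.z := A.K_com_z hxK
    by_cases hxQ : n * el a * n⁻¹ ∈ S.Q
    · obtain ⟨w, -, hw⟩ := A.K_Q hxK hxQ
      exact ⟨w, hw⟩
    obtain ⟨k, hk⟩ := A.pt.line (el e3) _ A.point hxp A.e3_com hxz
      (mem_centK.1 hxK e3).symm A.e3_not hxQ
    obtain ⟨w, -, hw⟩ := A.K_Q (mul_mem hxK (Co2Three.pw_mem (A.el_mem_K e3) k)) hk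
    refine ⟨w + (-k) • e3, ?_⟩
    rw [A.jd.el_add, ← hw, neg_smul, A.neg, A.smul]
    exact (mul_inv_cancel_right _ _).symm
  obtain ⟨a, ha, hb⟩ := singular_span v
  obtain ⟨x, hx⟩ := key a ha
  obtain ⟨y, hy⟩ := key _ hb
  refine ⟨x + y, ?_⟩
  rw [A.jd.el_add, ← hx, ← hy]
  conv_lhs => rw [show v = a + (v - a) from (add_sub_cancel a v).symm, A.jd.el_add]
  group

theorem K_fusion (A : Axes S el) (hK : CentHyp S) (x : G) (hx : x ∈ centK el) (g : G)
    (hg : g * x * g⁻¹ ∈ centK el) :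
    ∃ n : G, (∀ v, ∃ w, n * el v * n⁻¹ = el w) ∧ n * x * n⁻¹ = g * x * g⁻¹ := by
  haveI : Fact (Nat.Prime 3) := ⟨by norm_num⟩
  set C := centralizer ({g * x * g⁻¹} : Set G)
  have hKC : centK el ≤ C := fun k hk => mem_centralizer_singleton_iff.2 (A.K_comm hK hk hg).eq
  have hgC : (centK el).map (MulAut.conj g).toMonoidHom ≤ C := by
    rintro _ ⟨k, hk, rfl⟩
    exact mem_centralizer_singleton_iff.2 ((A.K_comm hK hk hx).map (MulAut.conj g).toMonoidHom).eq
  have hP : IsPGroup 3 (centK el) := fun x => ⟨1, Subtype.ext (by simpa using A.K_exp hK x.2)⟩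
  have hp1 : IsPGroup 3 ((centK el).subgroupOf C) := hP.of_equiv (subgroupOfEquivOfLe hKC).symm
  have hp2 : IsPGroup 3 (((centK el).map (MulAut.conj g).toMonoidHom).subgroupOf C) :=
    (hP.map _).of_equiv (subgroupOfEquivOfLe hgC).symm
  obtain ⟨U, hU⟩ := hp1.exists_le_sylow
  obtain ⟨V, hV⟩ := hp2.exists_le_sylow
  obtain ⟨c, hc⟩ := MulAction.exists_smul_eq C V U
  have hB : (centK el).map (MulAut.conj ((c : G) * g)).toMonoidHom ≤ (U : Subgroup C).map C.subtype := by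
    rintro _ ⟨k, hk, rfl⟩
    have hgk : g * k * g⁻¹ ∈ (centK el).map (MulAut.conj g).toMonoidHom := ⟨k, hk, rfl⟩
    have hkV : (⟨g * k * g⁻¹, hgC hgk⟩ : C) ∈ (V : Subgroup C) := hV hgk
    refine ⟨c * ⟨g * k * g⁻¹, hgC hgk⟩ * c⁻¹, ?_, ?_⟩
    · rw [← hc, Sylow.coe_subgroup_smul]
      exact Subgroup.smul_mem_pointwise_smul _ (MulAut.conj c) _ hkV
    · show (c : G) * (g * k * g⁻¹) * (c : G)⁻¹ = (c : G) * g * k * ((c : G) * g)⁻¹
      group
  have hcom : IsMulCommutative ↥((centK el).map (MulAut.conj ((c : G) * g)).toMonoidHom) := ⟨⟨by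
    rintro ⟨_, a, ha, rfl⟩ ⟨_, b, hb, rfl⟩
    exact Subtype.ext ((A.K_comm hK ha hb).map (MulAut.conj ((c : G) * g)).toMonoidHom).eq⟩⟩
  have heq := A.K_unique hK _ (U.2.map C.subtype) (fun k hk => ⟨⟨k, hKC hk⟩, hU hk, rfl⟩) _ hB hcom
    (Nat.card_congr (equivMapOfInjective _ _ (MulAut.conj ((c : G) * g)).injective).toEquiv).symm
  refine ⟨(c : G) * g, A.norm_of_normK fun k hk => heq.le ⟨k, hk, rfl⟩, ?_⟩
  calc (c : G) * g * x * ((c : G) * g)⁻¹ = (c : G) * (g * x * g⁻¹) * (c : G)⁻¹ := by group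
    _ = g * x * g⁻¹ := by rw [mem_centralizer_singleton_iff.1 c.2, mul_inv_cancel_right]

/-- The first involution fixes only the second factor in the core. -/
theorem cQt (A : Axes S el) {q : G} (hq : q ∈ S.Q) (ht : Commute S.t q) : q ∈ S.Q2 := by
  obtain ⟨a, ha, b, hb, rfl⟩ := S.exists_mul hq S.sup_eq
  have hta : Commute S.t a := by
    have := ht.mul_right (S.P_Q2 _ S.t_mem b hb).inv_right
    rwa [mul_inv_cancel_right] at this
  have h := S.t_inv a ha
  rw [hta.eq, mul_inv_cancel_right] at h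
  have haz : a ∈ zpowers S.z := by
    have h3 := S.exp a (S.le1 ha)
    rw [show a = (a * a)⁻¹ from eq_inv_of_mul_eq_one_left (by rw [← h3, pow_succ, pow_two]; group)]
    exact inv_mem h
  exact mul_mem (zpowers_le.2 S.z_mem2 haz) hb

theorem t_comm_P (A : Axes S el) {p : G} (hp : p ∈ S.P) : Commute p S.t := by
  refine mul_inv_eq_iff_eq_mul.1 ((S.P_invol _ (mul_mem (mul_mem hp S.t_mem) (inv_mem hp)) ?_).resolve_left ?_)
  · rw [show p * S.t * p⁻¹ * (p * S.t * p⁻¹) = p * (S.t * S.t) * p⁻¹ by group, S.t_sq]; group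
  · exact fun h => S.t_ne (conj_eq_one_iff.1 h)

/-- The centraliser of the central element and of the first involution. -/
theorem centT (A : Axes S el) (hK : CentHyp S) (ht : ∀ v, S.t * el v * S.t⁻¹ = el (refl1 v)) (g : G)
    (hgz : Commute g S.z) (hgt : Commute g S.t) :
    ∃ q ∈ S.Q2, ∃ p ∈ S.P, ∃ p' ∈ S.P', ∃ k ∈ centK el ⊓ centralizer {S.t}, g = q * p * p' * k := by
  have he2 : el e2 ∉ S.Q1 := fun h => A.e2_not (S.inf12.le ⟨h, A.e2_mem⟩)
  have hg : S.Pres g := S.pres_of_mem hgz (Or.inr A.e2_mem) A.e2_not ⟨fun h => absurd h he2, fun _ => by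
    refine A.cQt (S.normal' hgz (S.le2 A.e2_mem)) ?_
    exact ((hgt.symm.mul_right (S.P_Q2 _ S.t_mem _ A.e2_mem)).mul_right hgt.symm.inv_right)⟩
  obtain ⟨p, hp, p', hp', q, hq, k, hk, rfl⟩ := A.exists_PQK hg
  have hp't : Commute p' S.t := (S.PP'_comm S.t S.t_mem p' hp').symm
  have hqk : Commute (q * k) S.t := by
    have := ((A.t_comm_P hp).mul_left hp't).inv_left.mul_left hgt
    rwa [show (p * p')⁻¹ * (p * p' * q * k) = q * k by group] at this
  have hti : S.t⁻¹ = S.t := inv_eq_of_mul_eq_one_right S.t_sq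
  set u := S.t * k * S.t⁻¹
  have hu : u ∈ centK el := A.normK (fun v => ⟨_, ht v⟩) hk
  have htu : S.t * u * S.t⁻¹ = k := by
    calc S.t * u * S.t⁻¹ = (S.t * S.t) * k * (S.t * S.t)⁻¹ := by simp only [u]; group
      _ = k := by rw [S.t_sq]; group
  set k' := k * u * (k * u)
  have hk' : k' ∈ centK el := mul_mem (mul_mem hk hu) (mul_mem hk hu)
  have hk't : Commute k' S.t := by
    have h : Commute S.t (k * u) := by
      refine mul_inv_eq_iff_eq_mul.1 ?_
      calc S.t * (k * u) * S.t⁻¹ = S.t * k * S.t⁻¹ * (S.t * u * S.t⁻¹) := by group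
        _ = u * (S.t * u * S.t⁻¹) := rfl
        _ = k * u := by rw [htu, (A.K_comm hK hu hk).eq]
    exact (h.mul_right h).symm
  have hkk : k⁻¹ * k' ∈ S.Q := by
    have h3 := A.K_exp hK hu
    have hu2 : u * u = u⁻¹ := eq_inv_of_mul_eq_one_left (by rw [← h3, pow_succ, pow_two])
    have e : k⁻¹ * k' = ⁅k, S.t⁆ := by
      rw [commutatorElement_def,
        show k * S.t * k⁻¹ * S.t⁻¹ = k * u⁻¹ by simp only [u]; group, ← hu2]
      show k⁻¹ * (k * u * (k * u)) = k * (u * u)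
      rw [show k⁻¹ * (k * u * (k * u)) = (u * k) * u by group, (A.K_comm hK hu hk).eq, mul_assoc]
    rw [e]
    exact t_comm_mod (A.K_pres hk)
  set q' := q * (k⁻¹ * k')⁻¹
  have hq' : q' ∈ S.Q := mul_mem hq (inv_mem hkk)
  have hqe : q * k = q' * k' := by
    show q * k = q * (k⁻¹ * k')⁻¹ * k'
    rw [mul_inv_rev, inv_inv, mul_assoc q, mul_assoc k'⁻¹, (A.K_comm hK hk hk').eq, inv_mul_cancel_left]
  have hq2 : q' ∈ S.Q2 := by
    refine A.cQt hq' ?_
    have := (hqk.mul_left hk't.inv_left).symm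
    rwa [hqe, mul_inv_cancel_right] at this
  have hp'z := S.pres_P' hp'
  refine ⟨p' * q' * p'⁻¹, hp'z.2.2 _ hq2, p, hp, p', hp', k',
    ⟨hk', mem_centralizer_singleton_iff.2 hk't.eq⟩, ?_⟩
  have hpq : Commute p q' := S.P_Q2 p hp q' hq2
  have hpp : Commute p p' := S.PP'_comm p hp p' hp'
  calc p * p' * q * k = p * p' * (q' * k') := by rw [← hqe]; group
    _ = p' * q' * p * k' := by rw [hpp.eq, mul_assoc p' p, ← mul_assoc p q', hpq.eq]; group
    _ = p' * q' * p'⁻¹ * p * p' * k' := by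
      rw [show p' * q' * p'⁻¹ * p * p' * k' = p' * q' * (p'⁻¹ * p * p') * k' by group,
        show p'⁻¹ * p * p' = p by rw [mul_assoc, hpp.eq, inv_mul_cancel_left]]

/-- The opposite point is moved by the quaternion group. -/
theorem P_move (A : Axes S el) (ht : ∀ v, S.t * el v * S.t⁻¹ = el (refl1 v)) (v : V4) (hv1 : v 1 = 0)
    (hv3 : v 3 ≠ 0) (p : G) (hp : p ∈ S.P) (hpv : Commute p (el v)) : p = 1 ∨ p = S.t := by
  have hpz : Commute p S.z := (S.pres_P hp).1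
  have hp2 : Commute p (el e2) := S.P_Q2 p hp _ A.e2_mem
  have hp3 : Commute p (el e3) := by
    have e : e3 = v 3 • (v + (-v 0) • e0 + (-v 2) • e2) :=
      (by decide +kernel : ∀ v : V4, v 1 = 0 → v 3 ≠ 0 → e3 = v 3 • (v + (-v 0) • e0 + (-v 2) • e2)) v hv1 hv3
    rw [e, A.smul, A.jd.el_add, A.jd.el_add, A.smul _ e2]
    exact ((hpv.mul_right (Pt.fix_Z hpz (A.z_line _))).mul_right (hp2.pow_right _)).pow_right _
  obtain ⟨M, hM, hMv⟩ := A.jd.norm_sim p fun w => A.mem_J_iff.1 ((A.base.normalise_iff hpz).2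
    ⟨1, one_mem _, 1, one_ne_zero, by rw [pw_one, one_mul, hp3.eq, mul_inv_cancel_right]⟩ _
    (A.mem_J_iff.2 ⟨w, rfl⟩))
  obtain ⟨μ, -, -, hMb⟩ := isSim_mult hM
  have hfix : ∀ w, Commute p (el w) → M.mulVec w = w := fun w hw =>
    A.jd.el_inj (by rw [← hMv, hw.eq, mul_inv_cancel_right])
  have h0 := hfix e0 (A.z_eq.symm ▸ hpz)
  have h2 := hfix e2 hp2
  have h3 := hfix e3 hp3
  obtain ⟨-, hspan, b03, b10, b12, b13, hr1⟩ := cent_facts
  have hc : M.mulVec e1 = (M.mulVec e1) 1 • e1 := by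
    refine hspan _ ?_ ?_ ?_
    · have h := hMb e1 e0
      rwa [h0, b10, mul_zero] at h
    · have h := hMb e1 e2
      rwa [h2, b12, mul_zero] at h
    · have h := hMb e1 e3
      rwa [h3, b13, mul_zero] at h
  set c := (M.mulVec e1) 1
  have hp1 : p * el e1 * p⁻¹ = el (c • e1) := (hMv e1).trans (congrArg el hc)
  have hc0 : c ≠ 0 := fun h => A.e1_not (by
    rw [h, zero_smul] at hp1
    have e : el e1 = p⁻¹ * el 0 * p := by rw [← hp1]; group
    rw [e, show el 0 = 1 from mul_eq_left.1 ((A.jd.el_add 0 0).symm.trans (by rw [add_zero]))]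
    simp)
  have hsq : Commute (p * p) (el e1) := by
    refine mul_inv_eq_iff_eq_mul.1 ?_
    calc p * p * el e1 * (p * p)⁻¹ = p * (p * el e1 * p⁻¹) * p⁻¹ := by group
      _ = el ((c * c) • e1) := by rw [hp1, A.smul, ← conj_pow, hp1, ← A.smul, smul_smul]
      _ = el e1 := by rw [(by decide : ∀ c : ZMod 3, c ≠ 0 → c * c = 1) c hc0, one_smul]
  by_contra hno
  push Not at hno
  have htc : ¬ Commute S.t (el e1) := fun h =>
    hr1 (A.jd.el_inj (by rw [← ht, h.eq, mul_inv_cancel_right]))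
  by_cases h4 : p * p * (p * p) = 1
  · rcases S.P_invol _ (mul_mem hp hp) h4 with h | h
    · exact ((S.P_invol p hp h).elim hno.1 hno.2).elim
    · exact htc (h ▸ hsq)
  · have h8 : p * p * (p * p) * (p * p * (p * p)) = 1 := by
      rw [← S.P_pow hp]; simp [pow_succ, mul_assoc]
    exact htc ((S.P_invol _ (mul_mem (mul_mem hp hp) (mul_mem hp hp)) h8).resolve_left h4 ▸ hsq.mul_left hsq)

end Axes

end Cfsg.Agent.U62Three
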