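import Cfsg.Agent.Lib.U62Three.Point.Sylow
import Mathlib.GroupTheory.NoncommCoprod

/-!
An element of order three normalising the two factors of the core and acting non-trivially on both: its fixed
space modulo the centre has order nine and equals the space of commutators.
-/

set_option autoImplicit false
set_option linter.style.haveILetI false

namespace Cfsg.Agent.U62Three.Local

open Subgroup
open scoped commutatorElement
open Co2Three (Core IsPoint)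

/-- An element of order three on a group of order nine: image and kernel of the displacement agree. -/
theorem displacement {V : Type*} [CommGroup V] [Finite V] (hV : Nat.card V = 9) (h3 : ∀ x : V, x ^ 3 = 1)
    (a : V →* V) (ha : ∀ x, a (a (a x)) = x) {x₀ : V} (hx₀ : a x₀ ≠ x₀) :
    Nat.card (a / MonoidHom.id V).ker = 3 ∧ (a / MonoidHom.id V).range = (a / MonoidHom.id V).ker := by
  set N := a / MonoidHom.id V
  have hN : ∀ x, N x = a x / x := fun _ => rfl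
  have h3' : ∀ x : V, x * x * x = 1 := fun x => by rw [← h3 x, pow_succ, pow_two]
  have hN3 : ∀ x, N (N (N x)) = 1 := fun x => by
    simp only [hN, map_div, ha]
    have e1 := h3' (a x)
    have e2 := h3' (a (a x))
    set p := a x
    set q := a (a x)
    calc x / q / (q / p) / (q / p / (p / x)) = p * p * p / (q * q * q) := by
          simp [div_eq_mul_inv, mul_assoc, mul_left_comm, mul_comm]
      _ = 1 := by rw [e1, e2, div_one]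
  have hm : Nat.card N.ker * Nat.card N.range = 9 := by
    rw [← index_ker, card_mul_index, hV]
  have hk : Nat.card N.ker ∣ 3 ^ 2 := by
    rw [show (3 : ℕ) ^ 2 = 9 by norm_num, ← hm]; exact Dvd.intro _ rfl
  have hker : Nat.card N.ker = 3 := by
    obtain ⟨i, hi, he⟩ := (Nat.dvd_prime_pow Nat.prime_three).1 hk
    rw [he]
    rcases (show i = 0 ∨ i = 1 ∨ i = 2 by omega) with rfl | rfl | rfl
    · exfalso
      have hinj : Function.Injective N := (MonoidHom.ker_eq_bot_iff N).1 (eq_bot_of_card_eq _ (by simpa using he))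
      exact hx₀ (hinj.comp (hinj.comp hinj) ((hN3 (a x₀)).trans (hN3 x₀).symm))
    · norm_num
    · exfalso
      have htop : N.ker = ⊤ := eq_top_of_card_eq _ (by rw [he, hV]; norm_num)
      exact hx₀ (div_eq_one.1 ((hN x₀).symm.trans (MonoidHom.mem_ker.1 (htop ▸ mem_top x₀))))
  have hran : Nat.card N.range = 3 := by
    rw [hker] at hm
    omega
  refine ⟨hker, eq_of_le_of_card_ge ?_ (by rw [hker, hran])⟩
  haveI : Fact (Nat.card N.range).Prime := ⟨hran.symm ▸ Nat.prime_three⟩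
  rcases (N.ker.subgroupOf N.range).eq_bot_or_eq_top_of_prime_card with h | h
  · exfalso
    have hinj : ∀ y ∈ N.range, N y = 1 → y = 1 := fun y hy hy1 => by
      have : (⟨y, hy⟩ : N.range) ∈ (⊥ : Subgroup N.range) := h ▸ (mem_subgroupOf.2 hy1)
      exact congrArg Subtype.val (mem_bot.1 this)
    refine hx₀ (div_eq_one.1 ((hN x₀).symm.trans ?_))
    exact hinj _ ⟨x₀, rfl⟩ (hinj _ ⟨N x₀, rfl⟩ (hN3 x₀))
  · exact subgroupOf_eq_top.1 h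

variable {G : Type*} [Group G] {Q : Subgroup G} {z y : G}

theorem comm_mul (C : Core Q z) {a b : G} (ha : a ∈ Q) (hb : b ∈ Q)
    (hyb : y * b * y⁻¹ ∈ Q) : ∃ c ∈ zpowers z, ⁅y, a * b⁆ = ⁅y, a⁆ * ⁅y, b⁆ * c := by
  have hd : ⁅y, b⁆ ∈ Q := by rw [commutatorElement_def]; exact mul_mem hyb (inv_mem hb)
  refine ⟨⁅y, b⁆⁻¹ * (a * ⁅y, b⁆ * a⁻¹), ?_, ?_⟩
  · have := C.comm _ (inv_mem hd) a ha
    rwa [inv_inv, mul_assoc, mul_assoc, ← mul_assoc a] at this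
  · simp only [commutatorElement_def]; group

/-- The fixed space of an element of order three on one factor. -/
theorem factor [Finite G] (C : Core Q z) (hexp : ∀ q ∈ Q, q ^ 3 = 1) {Q₁ : Subgroup G} (hQ₁ : Q₁ ≤ Q)
    (h27 : Nat.card Q₁ = 27) (hz : z ∈ Q₁) (hy : Commute y z) (hy3 : y ^ 3 = 1)
    (hn : ∀ q ∈ Q₁, y * q * y⁻¹ ∈ Q₁) (hne : ∃ q ∈ Q₁, ⁅y, q⁆ ∉ zpowers z) :
    ∃ W : Subgroup G, Nat.card W = 9 ∧ zpowers z ≤ W ∧ (∀ q, q ∈ W ↔ q ∈ Q₁ ∧ ⁅y, q⁆ ∈ zpowers z) ∧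
      ∀ w ∈ W, ∃ r ∈ Q₁, ∃ c ∈ zpowers z, w = ⁅y, r⁆ * c := by
  set N := (zpowers z).subgroupOf Q₁ with hNdef
  haveI : N.Normal := ⟨fun n hn' g => by
    rw [mem_subgroupOf] at hn' ⊢
    show (g : G) * n * (g : G)⁻¹ ∈ zpowers z
    rwa [(C.commute hn' (hQ₁ g.2)).symm, mul_inv_cancel_right]⟩
  let π := QuotientGroup.mk' N
  have hπ : ∀ a b : Q₁, π a = π b ↔ (a : G)⁻¹ * b ∈ zpowers z := fun a b =>
    QuotientGroup.eq
  letI : CommGroup (Q₁ ⧸ N) :=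
    { mul_comm := fun p q => by
        obtain ⟨p, rfl⟩ := QuotientGroup.mk'_surjective N p
        obtain ⟨q, rfl⟩ := QuotientGroup.mk'_surjective N q
        rw [← map_mul, ← map_mul]
        refine (hπ _ _).2 ?_
        have := C.comm _ (inv_mem (hQ₁ q.2)) _ (inv_mem (hQ₁ p.2))
        simpa [mul_assoc] using this }
  have hV : Nat.card (Q₁ ⧸ N) = 9 := by
    have h := N.card_mul_index
    rw [index_eq_card, Nat.card_congr (subgroupOfEquivOfLe (zpowers_le.2 hz)).toEquiv, C.card_zpowers, h27] at h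
    omega
  let f : Q₁ →* Q₁ :=
    { toFun := fun q => ⟨y * q * y⁻¹, hn q q.2⟩
      map_one' := Subtype.ext (by simp)
      map_mul' := fun p q => Subtype.ext (by simp [mul_assoc]) }
  have hNf : N ≤ N.comap f := fun q hq => by
    rw [mem_comap, mem_subgroupOf]
    rw [mem_subgroupOf] at hq
    obtain ⟨k, hk⟩ := mem_zpowers_iff.1 hq
    show y * q * y⁻¹ ∈ zpowers z
    rw [← hk, (hy.zpow_right k).eq, mul_inv_cancel_right]
    exact zpow_mem (mem_zpowers z) k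
  let a : Q₁ ⧸ N →* Q₁ ⧸ N := QuotientGroup.map N N f hNf
  have haπ : ∀ q : Q₁, a (π q) = π (f q) := fun q => rfl
  have hd : ∀ q : Q₁, (a / MonoidHom.id (Q₁ ⧸ N)) (π q) =
      π ⟨⁅y, (q : G)⁆, by rw [commutatorElement_def]; exact mul_mem (hn q q.2) (inv_mem q.2)⟩ := fun q => by
    show a (π q) / π q = _
    rw [haπ, ← map_div]
    exact congrArg π (Subtype.ext (by simp [f, commutatorElement_def, div_eq_mul_inv]))
  have hone : ∀ x : Q₁, π x = 1 ↔ (x : G) ∈ zpowers z := fun x => QuotientGroup.eq_one_iff x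
  obtain ⟨q₀, hq₀, hq₀'⟩ := hne
  have hx₀ : a (π ⟨q₀, hq₀⟩) ≠ π ⟨q₀, hq₀⟩ := fun h => hq₀' (by
    have h' := hd ⟨q₀, hq₀⟩
    rw [MonoidHom.div_apply, h, MonoidHom.id_apply, div_self'] at h'
    exact (hone _).1 h'.symm)
  obtain ⟨hker, hrange⟩ := displacement hV (fun x => by
    obtain ⟨x, rfl⟩ := QuotientGroup.mk'_surjective N x
    rw [← map_pow, show x ^ 3 = 1 from Subtype.ext (by simpa using hexp _ (hQ₁ x.2)), map_one]) a (fun x => by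
    obtain ⟨x, rfl⟩ := QuotientGroup.mk'_surjective N x
    rw [haπ, haπ, haπ]
    exact congrArg π (Subtype.ext (by
      show y * (y * (y * (x : G) * y⁻¹) * y⁻¹) * y⁻¹ = x
      calc y * (y * (y * (x : G) * y⁻¹) * y⁻¹) * y⁻¹ = y ^ 3 * x * (y ^ 3)⁻¹ := by simp [pow_succ, mul_assoc]
        _ = x := by rw [hy3, one_mul, inv_one, mul_one]))) hx₀
  set K := (a / MonoidHom.id _).ker
  have hmem : ∀ q : Q₁, q ∈ K.comap π ↔ ⁅y, (q : G)⁆ ∈ zpowers z := fun q => by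
    rw [mem_comap, MonoidHom.mem_ker, hd, hone]
  refine ⟨(K.comap π).map Q₁.subtype, ?_, fun w hw => ?_, fun q => ?_, ?_⟩
  · rw [card_subtype]
    have h := (K.comap π).card_mul_index
    rw [index_comap_of_surjective K (QuotientGroup.mk'_surjective N), h27] at h
    have h' := K.card_mul_index
    rw [hker, hV] at h'
    rw [show K.index = 3 by omega] at h
    omega
  · refine ⟨⟨w, zpowers_le.2 hz hw⟩, ?_, rfl⟩
    show π _ ∈ K
    rw [(hone _).2 hw]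
    exact one_mem _
  · constructor
    · rintro ⟨x, hx, rfl⟩
      exact ⟨x.2, (hmem x).1 hx⟩
    · rintro ⟨hq, hy'⟩
      exact ⟨⟨q, hq⟩, (hmem _).2 hy', rfl⟩
  · rintro _ ⟨x, hx, rfl⟩
    obtain ⟨r, hr⟩ := hrange.symm ▸ (show π x ∈ K from hx)
    obtain ⟨r, rfl⟩ := QuotientGroup.mk'_surjective N r
    rw [hd, hπ] at hr
    exact ⟨r, r.2, _, hr, (mul_inv_cancel_left _ _).symm⟩

/-- The fixed space in the core of an element of order three acting non-trivially on both factors. -/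
theorem fixed_space [Finite G] (C : Core Q z) (hexp : ∀ q ∈ Q, q ^ 3 = 1) {Q₁ Q₂ : Subgroup G}
    (h₁ : Q₁ ≤ Q) (h₂ : Q₂ ≤ Q) (c₁ : Nat.card Q₁ = 27) (c₂ : Nat.card Q₂ = 27) (z₁ : z ∈ Q₁) (z₂ : z ∈ Q₂)
    (hcomm : ∀ a ∈ Q₁, ∀ b ∈ Q₂, Commute a b) (hinf : Q₁ ⊓ Q₂ ≤ zpowers z) (hsup : Q ≤ Q₁ ⊔ Q₂)
    (hy : Commute y z) (hy3 : y ^ 3 = 1)
    (hn₁ : ∀ q ∈ Q₁, y * q * y⁻¹ ∈ Q₁) (hn₂ : ∀ q ∈ Q₂, y * q * y⁻¹ ∈ Q₂)
    (hne₁ : ∃ q ∈ Q₁, ⁅y, q⁆ ∉ zpowers z) (hne₂ : ∃ q ∈ Q₂, ⁅y, q⁆ ∉ zpowers z) :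
    Nat.card {q : G // q ∈ Q ∧ ⁅y, q⁆ ∈ zpowers z} = 27 ∧
      ∀ w ∈ Q, ⁅y, w⁆ ∈ zpowers z → ∃ r ∈ Q, ∃ c ∈ zpowers z, w = ⁅y, r⁆ * c := by
  obtain ⟨W₁, k₁, l₁, m₁, i₁⟩ := factor C hexp h₁ c₁ z₁ hy hy3 hn₁ hne₁
  obtain ⟨W₂, k₂, l₂, m₂, i₂⟩ := factor C hexp h₂ c₂ z₂ hy hy3 hn₂ hne₂
  have hdec : ∀ x ∈ Q, ∃ a ∈ Q₁, ∃ b ∈ Q₂, x = a * b := by
    let g : Q₁ × Q₂ →* G := Q₁.subtype.noncommCoprod Q₂.subtype fun a b => hcomm a a.2 b b.2
    intro x hx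
    have hle : Q₁ ⊔ Q₂ ≤ g.range :=
      sup_le (fun a ha => ⟨(⟨a, ha⟩, 1), mul_one a⟩) fun b hb => ⟨(1, ⟨b, hb⟩), one_mul b⟩
    obtain ⟨⟨a, b⟩, rfl⟩ := hle (hsup hx)
    exact ⟨a, a.2, b, b.2, rfl⟩
  have hsplit : ∀ a ∈ Q₁, ∀ b ∈ Q₂, ⁅y, a * b⁆ ∈ zpowers z → a ∈ W₁ ∧ b ∈ W₂ := fun a ha b hb h => by
    obtain ⟨c, hc, e⟩ := comm_mul C (h₁ ha) (h₂ hb) (h₂ (hn₂ b hb))
    rw [e] at h
    have hd := (mul_mem_cancel_right hc).1 h
    have m1 : ⁅y, a⁆ ∈ Q₁ := by rw [commutatorElement_def]; exact mul_mem (hn₁ a ha) (inv_mem ha)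
    have m2 : ⁅y, b⁆ ∈ Q₂ := by rw [commutatorElement_def]; exact mul_mem (hn₂ b hb) (inv_mem hb)
    have e2 : ⁅y, b⁆ ∈ zpowers z := hinf ⟨(Subgroup.mul_mem_cancel_left Q₁ m1).1 (zpowers_le.2 z₁ hd), m2⟩
    exact ⟨(m₁ a).2 ⟨ha, (mul_mem_cancel_right e2).1 hd⟩, (m₂ b).2 ⟨hb, e2⟩⟩
  have hin : ∀ a ∈ W₁, ∀ b ∈ W₂, a * b ∈ Q ∧ ⁅y, a * b⁆ ∈ zpowers z := fun a ha b hb => by
    obtain ⟨ha, ha'⟩ := (m₁ a).1 ha
    obtain ⟨hb, hb'⟩ := (m₂ b).1 hb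
    obtain ⟨c, hc, e⟩ := comm_mul C (h₁ ha) (h₂ hb) (h₂ (hn₂ b hb))
    exact ⟨mul_mem (h₁ ha) (h₂ hb), e ▸ mul_mem (mul_mem ha' hb') hc⟩
  refine ⟨?_, fun w hw hw' => ?_⟩
  · let f : W₁ × W₂ →* G :=
      { toFun := fun p => (p.1 : G) * p.2
        map_one' := by simp
        map_mul' := fun p q => by
          show (p.1 : G) * q.1 * ((p.2 : G) * q.2) = _
          rw [show (p.1 : G) * q.1 * ((p.2 : G) * q.2) = p.1 * (q.1 * p.2) * q.2 by group,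
            (hcomm q.1 ((m₁ _).1 q.1.2).1 p.2 ((m₂ _).1 p.2.2).1).eq]
          group }
    have hrange : ∀ x, x ∈ f.range ↔ x ∈ Q ∧ ⁅y, x⁆ ∈ zpowers z := fun x => by
      constructor
      · rintro ⟨p, rfl⟩; exact hin p.1 p.1.2 p.2 p.2.2
      · rintro ⟨hx, hx'⟩
        obtain ⟨a, ha, b, hb, rfl⟩ := hdec x hx
        obtain ⟨ha', hb'⟩ := hsplit a ha b hb hx'
        exact ⟨(⟨a, ha'⟩, ⟨b, hb'⟩), rfl⟩
    have hker : Nat.card f.ker = 3 := by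
      rw [← C.card_zpowers]
      refine Nat.card_congr (Equiv.ofBijective (fun p => ⟨(p.1.1 : G), hinf ⟨((m₁ _).1 p.1.1.2).1, ?_⟩⟩) ?_)
      · have hp : (p.1.1 : G) * p.1.2 = 1 := p.2
        rw [eq_inv_of_mul_eq_one_left hp]
        exact Q₂.inv_mem ((m₂ _).1 p.1.2.2).1
      · constructor
        · intro p q h
          have h' : (p.1.1 : G) = q.1.1 := congrArg (fun c : zpowers z => (c : G)) h
          have hp : (p.1.1 : G) * p.1.2 = 1 := p.2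
          have hq : (q.1.1 : G) * q.1.2 = 1 := q.2
          rw [h'] at hp
          exact Subtype.ext (Prod.ext (Subtype.ext h') (Subtype.ext (mul_left_cancel (hp.trans hq.symm))))
        · intro c
          exact ⟨⟨(⟨c, l₁ c.2⟩, ⟨(c : G)⁻¹, l₂ ((zpowers z).inv_mem c.2)⟩), mul_inv_cancel _⟩, rfl⟩
    have hm := f.ker.card_mul_index
    rw [hker, index_ker, Nat.card_prod, k₁, k₂] at hm
    rw [Nat.card_congr (Equiv.subtypeEquivRight fun x => (hrange x).symm)]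
    omega
  · obtain ⟨a, ha, b, hb, rfl⟩ := hdec w hw
    obtain ⟨ha', hb'⟩ := hsplit a ha b hb hw'
    obtain ⟨r, hr, c, hc, rfl⟩ := i₁ a ha'
    obtain ⟨s, hs, d, hd, rfl⟩ := i₂ b hb'
    obtain ⟨e, he, hrs⟩ := comm_mul C (h₁ hr) (h₂ hs) (h₂ (hn₂ s hs))
    refine ⟨r * s, mul_mem (h₁ hr) (h₂ hs), e⁻¹ * (c * d), mul_mem (inv_mem he) (mul_mem hc hd), ?_⟩
    have hsQ : ⁅y, s⁆ ∈ Q := h₂ (by rw [commutatorElement_def]; exact mul_mem (hn₂ s hs) (inv_mem hs))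
    rw [hrs, show ⁅y, r⁆ * c * (⁅y, s⁆ * d) = ⁅y, r⁆ * (c * ⁅y, s⁆) * d by group, C.commute hc hsQ]
    group

/-- Two factors of the core, preserved or interchanged by the centraliser, on both of which the points outside
the core act non-trivially. -/
structure Split (Q : Subgroup G) (z : G) (Q₁ Q₂ : Subgroup G) : Prop where
  le₁ : Q₁ ≤ Q
  le₂ : Q₂ ≤ Q
  card₁ : Nat.card Q₁ = 27
  card₂ : Nat.card Q₂ = 27
  mem₁ : z ∈ Q₁
  mem₂ : z ∈ Q₂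
  comm : ∀ a ∈ Q₁, ∀ b ∈ Q₂, Commute a b
  inf : Q₁ ⊓ Q₂ ≤ zpowers z
  sup : Q ≤ Q₁ ⊔ Q₂
  perm : ∀ g : G, Commute g z → (∀ q ∈ Q₁, g * q * g⁻¹ ∈ Q₁) ∧ (∀ q ∈ Q₂, g * q * g⁻¹ ∈ Q₂) ∨
    (∀ q ∈ Q₁, g * q * g⁻¹ ∈ Q₂) ∧ ∀ q ∈ Q₂, g * q * g⁻¹ ∈ Q₁
  moves₁ : ∀ y : G, IsPoint z y → Commute y z → y ∉ Q → ∃ q ∈ Q₁, ⁅y, q⁆ ∉ zpowers z
  moves₂ : ∀ y : G, IsPoint z y → Commute y z → y ∉ Q → ∃ q ∈ Q₂, ⁅y, q⁆ ∉ zpowers z

theorem Split.preserves {Q₁ Q₂ : Subgroup G} (S : Split Q z Q₁ Q₂) (hy : Commute y z) (hy3 : y ^ 3 = 1) :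
    (∀ q ∈ Q₁, y * q * y⁻¹ ∈ Q₁) ∧ ∀ q ∈ Q₂, y * q * y⁻¹ ∈ Q₂ := by
  rcases S.perm y hy with h | ⟨ha, hb⟩
  · exact h
  have key : ∀ q : G, y * q * y⁻¹ = y * y * (y * y * q * (y * y)⁻¹) * (y * y)⁻¹ := fun q => by
    have e : y * y * (y * y) = y := by rw [← mul_assoc, ← pow_two, ← pow_succ, hy3, one_mul]
    calc y * q * y⁻¹ = y * y * (y * y) * q * (y * y * (y * y))⁻¹ := by rw [e]
      _ = _ := by group
  constructor
  · intro q hq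
    rw [key]
    simpa [mul_assoc] using hb _ (ha _ (hb _ (ha q hq)))
  · intro q hq
    rw [key]
    simpa [mul_assoc] using ha _ (hb _ (ha _ (hb q hq)))

theorem Split.exists_mul {Q₁ Q₂ : Subgroup G} (S : Split Q z Q₁ Q₂) {x : G} (hx : x ∈ Q) :
    ∃ a ∈ Q₁, ∃ b ∈ Q₂, x = a * b := by
  let g : Q₁ × Q₂ →* G := Q₁.subtype.noncommCoprod Q₂.subtype fun a b => S.comm a a.2 b b.2
  have hle : Q₁ ⊔ Q₂ ≤ g.range :=
    sup_le (fun a ha => ⟨(⟨a, ha⟩, 1), mul_one a⟩) fun b hb => ⟨(1, ⟨b, hb⟩), one_mul b⟩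
  obtain ⟨⟨a, b⟩, rfl⟩ := hle (S.sup hx)
  exact ⟨a, a.2, b, b.2, rfl⟩

/-- The properties of a point from two factors, when nine does not divide the index of the core. -/
theorem pt_of_split [Finite G] (core : Core Q z) (le : Q ≤ centralizer {z})
    (normal : ∀ g ∈ centralizer ({z} : Set G), ∀ q ∈ Q, g * q * g⁻¹ ∈ Q) (exp : ∀ q ∈ Q, q ^ 3 = 1)
    (cq : ∀ g : G, Commute g z → (∀ q ∈ Q, Commute g q) → g ∈ Q)
    (hidx : ¬ 9 ∣ (Q.subgroupOf (centralizer ({z} : Set G))).index)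
    (wc : ∀ g : G, g * z * g⁻¹ ∈ Q → g * z * g⁻¹ ∈ zpowers z) {Q₁ Q₂ : Subgroup G} (S : Split Q z Q₁ Q₂) :
    Pt Q z := by
  have h3 : ∀ y : G, IsPoint z y → y ^ 3 = 1 := by
    rintro y ⟨g, e | e⟩ <;> rw [← e, conj_pow]
    · rw [exp z core.mem]; group
    · rw [inv_pow, exp z core.mem]; group
  have key : ∀ y : G, IsPoint z y → Commute y z → y ∉ Q →
      Nat.card {q : G // q ∈ Q ∧ ⁅y, q⁆ ∈ zpowers z} = 27 ∧
        ∀ w ∈ Q, ⁅y, w⁆ ∈ zpowers z → ∃ r ∈ Q, ∃ c ∈ zpowers z, w = ⁅y, r⁆ * c := fun y hp hy hyQ =>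
    fixed_space core exp S.le₁ S.le₂ S.card₁ S.card₂ S.mem₁ S.mem₂ S.comm S.inf S.sup hy (h3 y hp)
      (S.preserves hy (h3 y hp)).1 (S.preserves hy (h3 y hp)).2 (S.moves₁ y hp hy hyQ) (S.moves₂ y hp hy hyQ)
  exact Pt.of_index core le normal exp cq hidx wc (fun y hp hy hyQ => (key y hp hy hyQ).1)
    fun y hp hy hyQ => (key y hp hy hyQ).2

end Cfsg.Agent.U62Three.Local
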