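import Cfsg.Agent.Lib.U62Three.Defs
import Cfsg.Agent.Lib.U62Three.Local.Act

/-!
The stabiliser of the two factors acts faithfully on them modulo the core, and is the product of the two
quaternion groups with the stabiliser of an axis in each factor.
-/

set_option autoImplicit false
set_option linter.style.haveILetI false
set_option linter.unusedSectionVars false

namespace Cfsg.Agent.U62Three.Setup

open Subgroup
open scoped commutatorElement MatrixGroups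
open Co2Three (Core pw pw_mem pw_zero pw_one pw_neg IsPoint)
open Local (lam lam_spec lam_eq exists_pw lam_skew lam_mul_left lam_mul_right lam_self lam_zero_iff Plane
  exists_plane z_cube pw_inj)

variable {G : Type*} [Group G] (S : Setup G)

/-- An element preserving both factors. -/
def Pres (g : G) : Prop :=
  Commute g S.z ∧ (∀ a ∈ S.Q1, g * a * g⁻¹ ∈ S.Q1) ∧ ∀ b ∈ S.Q2, g * b * g⁻¹ ∈ S.Q2

theorem conj_z {g : G} (h : Commute g S.z) : g * S.z * g⁻¹ ∈ zpowers S.z := by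
  rw [h.eq, mul_inv_cancel_right]
  exact mem_zpowers _

theorem normal' {g q : G} (h : Commute g S.z) (hq : q ∈ S.Q) : g * q * g⁻¹ ∈ S.Q := S.normal g (S.conj_z h) q hq

theorem Pres.mul {g h : G} (hg : S.Pres g) (hh : S.Pres h) : S.Pres (g * h) := by
  refine ⟨hg.1.mul_left hh.1, fun a ha => ?_, fun a ha => ?_⟩
  · rw [show g * h * a * (g * h)⁻¹ = g * (h * a * h⁻¹) * g⁻¹ by group]
    exact hg.2.1 _ (hh.2.1 a ha)
  · rw [show g * h * a * (g * h)⁻¹ = g * (h * a * h⁻¹) * g⁻¹ by group]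
    exact hg.2.2 _ (hh.2.2 a ha)

theorem exists_mul {x : G} (hx : x ∈ S.Q) (hsup : S.Q ≤ S.Q1 ⊔ S.Q2) : ∃ a ∈ S.Q1, ∃ b ∈ S.Q2, x = a * b := by
  let g : S.Q1 × S.Q2 →* G := S.Q1.subtype.noncommCoprod S.Q2.subtype fun a b => S.comm12 a a.2 b b.2
  have hle : S.Q1 ⊔ S.Q2 ≤ g.range :=
    sup_le (fun a ha => ⟨(⟨a, ha⟩, 1), mul_one a⟩) fun b hb => ⟨(1, ⟨b, hb⟩), one_mul b⟩
  obtain ⟨⟨a, b⟩, rfl⟩ := hle (hsup hx)
  exact ⟨a, a.2, b, b.2, rfl⟩

variable [Finite G]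

theorem sup_eq : S.Q ≤ S.Q1 ⊔ S.Q2 := by
  let g : S.Q1 × S.Q2 →* G := S.Q1.subtype.noncommCoprod S.Q2.subtype fun a b => S.comm12 a a.2 b b.2
  have hr : g.range ≤ S.Q1 ⊔ S.Q2 := by
    rintro _ ⟨p, rfl⟩
    exact mul_mem (mem_sup_left p.1.2) (mem_sup_right p.2.2)
  have hle : S.Q1 ⊔ S.Q2 ≤ S.Q := sup_le S.le1 S.le2
  have hk : Nat.card g.ker ≤ 3 := by
    rw [← S.core.card_zpowers]
    refine Nat.card_le_card_of_injective (fun p => ⟨(p.1.1 : G), ?_⟩) fun p q h => ?_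
    · have hp : (p.1.1 : G) * p.1.2 = 1 := p.2
      refine S.inf12.le ⟨p.1.1.2, ?_⟩
      rw [eq_inv_of_mul_eq_one_left hp]
      exact S.Q2.inv_mem p.1.2.2
    · have h' : (p.1.1 : G) = q.1.1 := congrArg (fun c : zpowers S.z => (c : G)) h
      have hp : (p.1.1 : G) * p.1.2 = 1 := p.2
      have hq : (q.1.1 : G) * q.1.2 = 1 := q.2
      rw [h'] at hp
      exact Subtype.ext (Prod.ext (Subtype.ext h') (Subtype.ext (mul_left_cancel (hp.trans hq.symm))))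
  have h := g.ker.card_mul_index
  rw [index_ker, Nat.card_prod, S.card1, S.card2] at h
  refine le_of_eq (eq_of_le_of_card_ge hle ?_).symm
  rw [S.core.card]
  refine le_trans ?_ (card_le_of_le hr)
  by_contra hlt
  have : Nat.card g.ker * Nat.card g.range ≤ 3 * 242 := Nat.mul_le_mul hk (by omega)
  omega

theorem exists_not_mem₁ : ∃ a ∈ S.Q1, a ∉ zpowers S.z := by
  by_contra hno
  push Not at hno
  have := card_le_of_le (show S.Q1 ≤ zpowers S.z from hno)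
  rw [S.card1, S.core.card_zpowers] at this
  omega

theorem exists_not_mem₂ : ∃ a ∈ S.Q2, a ∉ zpowers S.z := by
  by_contra hno
  push Not at hno
  have := card_le_of_le (show S.Q2 ≤ zpowers S.z from hno)
  rw [S.card2, S.core.card_zpowers] at this
  omega

/-- An axis of the first factor completes to a plane. -/
theorem exists_plane₁ {w : G} (hw : w ∈ S.Q1) (hwz : w ∉ zpowers S.z) : ∃ r, Plane S.Q S.z S.Q1 w r := by
  have C := S.core
  obtain ⟨r, hr, hne⟩ : ∃ r ∈ S.Q1, lam S.z w r ≠ 0 := by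
    by_contra hno
    push Not at hno
    refine hwz ((C.centre w (S.le1 hw)).1 fun q hq => ?_)
    obtain ⟨a, ha, b, hb, rfl⟩ := S.exists_mul hq S.sup_eq
    exact (((lam_zero_iff C (S.le1 hw) (S.le1 ha)).1 (hno a ha)).mul_right (S.comm12 w hw b hb)).eq
  refine ⟨r ^ (lam S.z w r).val, C, S.le1, S.card1, S.z_mem1, hw, pow_mem hr _, ?_⟩
  rw [lam_skew C (pow_mem (S.le1 hr) _) (S.le1 hw), Local.lam_pow C (S.le1 hr) (S.le1 hw),
    lam_skew C (S.le1 hw) (S.le1 hr), ZMod.natCast_zmod_val, mul_neg, neg_neg]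
  exact (by decide : ∀ c : ZMod 3, c ≠ 0 → c * c = 1) _ hne

/-- An element preserving a non-central element of a factor preserves both. -/
theorem pres_of_mem {g a : G} (hg : Commute g S.z) (ha : a ∈ S.Q1 ∨ a ∈ S.Q2) (haz : a ∉ zpowers S.z)
    (h : (a ∈ S.Q1 → g * a * g⁻¹ ∈ S.Q1) ∧ (a ∈ S.Q2 → g * a * g⁻¹ ∈ S.Q2)) : S.Pres g := by
  refine ⟨hg, (S.perm g (S.conj_z hg)).resolve_right fun hs => haz ?_⟩
  have hb : g * a * g⁻¹ ∈ zpowers S.z := S.inf12.le (by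
    rcases ha with ha | ha
    · exact ⟨h.1 ha, hs.1 a ha⟩
    · exact ⟨hs.2 a ha, h.2 ha⟩)
  obtain ⟨m, hm⟩ := mem_zpowers_iff.1 hb
  refine ⟨m, ?_⟩
  calc S.z ^ m = g⁻¹ * S.z ^ m * g := by rw [(hg.inv_left.zpow_right m).eq, inv_mul_cancel_right]
    _ = a := by rw [hm]; group

/-- An element fixing a non-central element of a factor modulo the centre preserves both. -/
theorem pres_of_fix {g a : G} (hg : Commute g S.z) (ha : a ∈ S.Q1 ∨ a ∈ S.Q2) (haz : a ∉ zpowers S.z)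
    (h : ⁅g, a⁆ ∈ zpowers S.z) : S.Pres g := by
  have e : g * a * g⁻¹ = ⁅g, a⁆ * a := by rw [commutatorElement_def]; group
  exact S.pres_of_mem hg ha haz ⟨fun h1 => e ▸ mul_mem (zpowers_le.2 S.z_mem1 h) h1,
    fun h2 => e ▸ mul_mem (zpowers_le.2 S.z_mem2 h) h2⟩

theorem pres_Q {q : G} (hq : q ∈ S.Q) : S.Pres q := by
  obtain ⟨a, ha, haz⟩ := S.exists_not_mem₁
  exact S.pres_of_fix (mem_centralizer_singleton_iff.1 (S.le hq)) (Or.inl ha) haz
    (S.core.comm q hq a (S.le1 ha))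

theorem pres_P {p : G} (hp : p ∈ S.P) : S.Pres p := by
  obtain ⟨a, ha, haz⟩ := S.exists_not_mem₂
  refine S.pres_of_fix (mem_centralizer_singleton_iff.1 (S.P_le hp)) (Or.inr ha) haz ?_
  rw [commutatorElement_eq_one_iff_mul_comm.2 (S.P_Q2 p hp a ha).eq]
  exact one_mem _

theorem pres_P' {p : G} (hp : p ∈ S.P') : S.Pres p := by
  obtain ⟨a, ha, haz⟩ := S.exists_not_mem₁
  refine S.pres_of_fix (mem_centralizer_singleton_iff.1 (S.P'_le hp)) (Or.inl ha) haz ?_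
  rw [commutatorElement_eq_one_iff_mul_comm.2 (S.P'_Q1 p hp a ha).eq]
  exact one_mem _

theorem P_pow {p : G} (hp : p ∈ S.P) : p ^ 8 = 1 := by
  have h := pow_card_eq_one' (x := (⟨p, hp⟩ : S.P))
  rw [S.card_P] at h
  exact congrArg Subtype.val h

/-- The two quaternion groups exchanged. -/
def swap : Setup G where
  z := S.z
  Q := S.Q
  Q1 := S.Q2
  Q2 := S.Q1
  P := S.P'
  P' := S.P
  t := S.t'
  t' := S.t
  core := S.core
  exp := S.exp
  le := S.le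
  normal := S.normal
  cq := S.cq
  wc := S.wc
  nwc := S.nwc
  le1 := S.le2
  le2 := S.le1
  z_mem1 := S.z_mem2
  z_mem2 := S.z_mem1
  card1 := S.card2
  card2 := S.card1
  inf12 := (inf_comm S.Q2 S.Q1).trans S.inf12
  comm12 := fun a ha b hb => (S.comm12 b hb a ha).symm
  perm := fun g hg => (S.perm g hg).imp (fun h => ⟨h.2, h.1⟩) (fun h => ⟨h.2, h.1⟩)
  card_P := S.card_P'
  card_P' := S.card_P
  P_le := S.P'_le
  P'_le := S.P_le
  t_mem := S.t'_mem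
  t'_mem := S.t_mem
  t_ne := S.t'_ne
  t'_ne := S.t_ne
  P_invol := S.P'_invol
  P'_invol := S.P_invol
  t_sq := S.t'_sq
  t'_sq := S.t_sq
  P_Q2 := S.P'_Q1
  P'_Q1 := S.P_Q2
  t_inv := S.t'_inv
  t'_inv := S.t_inv
  PP'_comm := fun p hp p' hp' => (S.PP'_comm p' hp' p hp).symm
  PP'_normal := fun g hg x hx => by
    rw [sup_comm S.P' S.P] at hx ⊢
    exact S.PP'_normal g hg x hx

theorem Pres.swap' {g : G} (hg : S.Pres g) : S.swap.Pres g := ⟨hg.1, hg.2.2, hg.2.1⟩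

/-- Elements trivial on the core modulo its centre lie in the core. -/
theorem mem_Q_of_trivial {x : G} (hx : Commute x S.z) (h1 : ∀ a ∈ S.Q1, ⁅x, a⁆ ∈ zpowers S.z)
    (h2 : ∀ b ∈ S.Q2, ⁅x, b⁆ ∈ zpowers S.z) : x ∈ S.Q := by
  have C := S.core
  have hsplit : ∀ (T : Setup G), T.Q = S.Q → T.z = S.z →
      (∀ a ∈ T.Q1, ⁅x, a⁆ ∈ zpowers S.z) → ∃ q ∈ T.Q1, ∀ a ∈ T.Q1, ⁅x, a⁆ = ⁅q, a⁆ := by
    intro T hTQ hTz htriv
    obtain ⟨w, hw, hwz⟩ := T.exists_not_mem₁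
    obtain ⟨r', hP'⟩ := T.exists_plane₁ hw hwz
    have hP : Plane S.Q S.z T.Q1 w r' := hTQ ▸ hTz ▸ hP'
    have hr := hP.r_mem
    have hl1 := hP.le
    obtain ⟨i, hi⟩ := exists_pw C (htriv r' hr)
    obtain ⟨j, hj⟩ := exists_pw C (htriv w hw)
    refine ⟨pw w i * pw r' (-j), mul_mem (pw_mem hw _) (pw_mem hr _), fun a ha => ?_⟩
    set q := pw w i * pw r' (-j) with hq
    have hqQ : q ∈ S.Q := hl1 (mul_mem (pw_mem hw _) (pw_mem hr _))
    obtain ⟨e1, e2⟩ := hP.coords i (-j) (one_mem (zpowers S.z))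
    rw [mul_one, ← hq] at e1 e2
    -- both commutator maps agree on the generators
    have hfix : ∀ b ∈ S.Q, ⁅x, b⁆ ∈ zpowers S.z → ⁅x, b⁆ = ⁅q, b⁆ → Commute (q⁻¹ * x) b := by
      intro b _ _ hb
      have h : x * b * x⁻¹ = q * b * q⁻¹ := by
        rw [commutatorElement_def, commutatorElement_def] at hb
        exact mul_right_cancel hb
      refine mul_inv_eq_iff_eq_mul.1 ?_
      rw [show q⁻¹ * x * b * (q⁻¹ * x)⁻¹ = q⁻¹ * (x * b * x⁻¹) * q by group, h]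
      group
    have cw : Commute (q⁻¹ * x) w := hfix w (hl1 hw) (htriv w hw) (by
      rw [← hj, ← lam_spec C hqQ (hl1 hw), lam_skew C (hl1 hw) hqQ, e2, neg_neg])
    have cr : Commute (q⁻¹ * x) r' := hfix r' (hl1 hr) (htriv r' hr) (by
      rw [← hi, ← lam_spec C hqQ (hl1 hr), e1])
    have cz : Commute (q⁻¹ * x) S.z :=
      (show Commute q S.z from mem_centralizer_singleton_iff.1 (S.le hqQ)).inv_left.mul_left hx
    obtain ⟨c, hc, e⟩ := hP.exists_coords ha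
    have hca : Commute (q⁻¹ * x) a := by
      rw [e]
      exact ((cw.pow_right _).mul_right (cr.pow_right _)).mul_right (Pt.fix_Z cz hc)
    have h' : x * a * x⁻¹ = q * a * q⁻¹ := by
      calc x * a * x⁻¹ = q * ((q⁻¹ * x) * a * (q⁻¹ * x)⁻¹) * q⁻¹ := by group
        _ = q * a * q⁻¹ := by rw [hca.eq, mul_inv_cancel_right]
    rw [commutatorElement_def, commutatorElement_def, h']
  obtain ⟨q1, hq1, e1⟩ := hsplit S rfl rfl h1
  obtain ⟨q2, hq2, e2⟩ := hsplit S.swap rfl rfl h2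
  replace hq2 : q2 ∈ S.Q2 := hq2
  set q := q1 * q2 with hq
  have hqQ : q ∈ S.Q := mul_mem (S.le1 hq1) (S.le2 hq2)
  have hc1 : ∀ a ∈ S.Q1, x * a * x⁻¹ = q * a * q⁻¹ := fun a ha => by
    have h := e1 a ha
    rw [commutatorElement_def, commutatorElement_def] at h
    rw [mul_right_cancel h, hq, show q1 * q2 * a * (q1 * q2)⁻¹ = q1 * (q2 * a * q2⁻¹) * q1⁻¹ by group,
      ← (S.comm12 a ha q2 hq2).eq, mul_inv_cancel_right]
  have hc2 : ∀ a ∈ S.Q2, x * a * x⁻¹ = q * a * q⁻¹ := fun a ha => by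
    have h := e2 a ha
    rw [commutatorElement_def, commutatorElement_def] at h
    rw [mul_right_cancel h, hq, show q1 * q2 * a * (q1 * q2)⁻¹ = q1 * (q2 * a * q2⁻¹) * q1⁻¹ by group]
    have : q2 * a * q2⁻¹ ∈ S.Q2 := mul_mem (mul_mem hq2 ha) (inv_mem hq2)
    rw [(S.comm12 q1 hq1 _ this).eq, mul_inv_cancel_right]
  have hmem : q⁻¹ * x ∈ S.Q := by
    refine S.cq _ ((show Commute q S.z from mem_centralizer_singleton_iff.1 (S.le hqQ)).inv_left.mul_left hx)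
      fun y hy => ?_
    obtain ⟨a, ha, b, hb, rfl⟩ := S.exists_mul hy S.sup_eq
    refine Commute.mul_right ?_ ?_ <;> refine mul_inv_eq_iff_eq_mul.1 ?_
    · rw [show q⁻¹ * x * a * (q⁻¹ * x)⁻¹ = q⁻¹ * (x * a * x⁻¹) * q by group, hc1 a ha]; group
    · rw [show q⁻¹ * x * b * (q⁻¹ * x)⁻¹ = q⁻¹ * (x * b * x⁻¹) * q by group, hc2 b hb]; group
  rw [← mul_inv_cancel_left q x]
  exact mul_mem hqQ hmem

/-- The subgroup preserving both factors. -/
def presGrp : Subgroup G where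
  carrier := {g | S.Pres g}
  one_mem' := ⟨Commute.one_left _, fun a ha => by simpa using ha, fun a ha => by simpa using ha⟩
  mul_mem' := fun hg hh => hg.mul S hh
  inv_mem' := fun {g} hg => by
    obtain ⟨a, ha, haz⟩ := S.exists_not_mem₁
    refine ⟨hg.1.inv_left, (S.perm g⁻¹ (S.conj_z hg.1.inv_left)).resolve_right fun hs => haz ?_⟩
    have hb := hg.2.2 _ (hs.1 a ha)
    rw [show g * (g⁻¹ * a * g⁻¹⁻¹) * g⁻¹ = a by group] at hb
    exact S.inf12.le ⟨ha, hb⟩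

/-- The first quaternion group covers the special linear group together with the unitriangular elements. -/
theorem exists_P_mul {w r : G} (P : Plane S.Q S.z S.Q1 w r) {g : G} (hg : S.Pres g) :
    ∃ p ∈ S.P, ⁅p⁻¹ * g, w⁆ ∈ zpowers S.z := by
  classical
  have hM : ∀ g ∈ S.presGrp, Commute g S.z ∧ ∀ q ∈ S.Q1, g * q * g⁻¹ ∈ S.Q1 :=
    fun g (hg : S.Pres g) => ⟨hg.1, hg.2.1⟩
  set f := P.act S.presGrp hM with hf
  set f' := f.comp (inclusion fun p hp => S.pres_P hp : S.P →* S.presGrp)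
  have hinj : Function.Injective f' := by
    refine (injective_iff_map_eq_one f').2 fun p hp => ?_
    have htriv : ∀ a ∈ S.Q1, ⁅(p : G), a⁆ ∈ zpowers S.z :=
      (P.act_eq_one hM _).1 hp
    have hz : Commute (p : G) S.z := mem_centralizer_singleton_iff.1 (S.P_le p.2)
    have hQ : (p : G) ∈ S.Q := S.mem_Q_of_trivial hz htriv fun b hb => by
      rw [commutatorElement_eq_one_iff_mul_comm.2 (S.P_Q2 _ p.2 b hb).eq]; exact one_mem _
    refine Subtype.ext (orderOf_eq_one_iff.1 (Nat.eq_one_of_dvd_coprimes (by norm_num : Nat.Coprime 8 3)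
      (orderOf_dvd_of_pow_eq_one (S.P_pow p.2)) (orderOf_dvd_of_pow_eq_one (S.exp _ hQ))))
  let U : Subgroup SL(2, ZMod 3) :=
    { carrier := {m | m.1 0 0 = 1 ∧ m.1 1 0 = 0}
      one_mem' := by simp
      mul_mem' := fun {a b} ha hb => by
        obtain ⟨a0, a1⟩ := ha
        obtain ⟨b0, b1⟩ := hb
        constructor <;> simp [Matrix.SpecialLinearGroup.coe_mul, Matrix.mul_apply, Fin.sum_univ_two, a0, a1, b0, b1]
      inv_mem' := fun {a} ha => by
        obtain ⟨a0, a1⟩ := ha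
        have hd := a.2
        rw [Matrix.det_fin_two, a0, a1, mul_zero, sub_zero, one_mul] at hd
        constructor <;> simp [Matrix.SpecialLinearGroup.coe_inv, Matrix.adjugate_fin_two, hd, a1] }
  have hU : Nat.card U = 3 := by
    let e : ZMod 3 ≃ U :=
      { toFun := fun c => ⟨⟨!![1, c; 0, 1], by simp [Matrix.det_fin_two_of]⟩, by simp, by simp⟩
        invFun := fun m => m.1.1 0 1
        left_inv := fun c => by simp
        right_inv := fun m => by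
          have a0 : m.1.1 0 0 = 1 := m.2.1
          have a1 : m.1.1 1 0 = 0 := m.2.2
          have hd := m.1.2
          rw [Matrix.det_fin_two, a0, a1, mul_zero, sub_zero, one_mul] at hd
          refine Subtype.ext (Subtype.ext ?_)
          show !![1, m.1.1 0 1; 0, 1] = m.1.1
          ext i j
          fin_cases i <;> fin_cases j
          · exact a0.symm
          · rfl
          · exact a1.symm
          · exact hd.symm }
    rw [← Nat.card_congr e]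
    simp
  let m : S.P × U → SL(2, ZMod 3) := fun p => f' p.1 * p.2
  have hm : Function.Bijective m := by
    refine (Nat.bijective_iff_injective_and_card m).2 ⟨fun p q h => ?_, by
      rw [Nat.card_prod, S.card_P, hU, Local.card_SL]⟩
    have h1 : f' (q.1⁻¹ * p.1) = (q.2 : SL(2, ZMod 3)) * (p.2 : SL(2, ZMod 3))⁻¹ := by
      rw [map_mul, map_inv, eq_mul_inv_iff_mul_eq, mul_assoc]
      exact inv_mul_eq_iff_eq_mul.2 h
    have h8 : (f' (q.1⁻¹ * p.1)) ^ 8 = 1 := by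
      rw [← map_pow, show (q.1⁻¹ * p.1 : S.P) ^ 8 = 1 from Subtype.ext (S.P_pow (q.1⁻¹ * p.1).2), map_one]
    have h3 : (f' (q.1⁻¹ * p.1)) ^ 3 = 1 := by
      rw [h1]
      have hu := pow_card_eq_one' (x := q.2 * p.2⁻¹)
      rw [hU] at hu
      exact congrArg Subtype.val hu
    have h0 : f' (q.1⁻¹ * p.1) = 1 :=
      orderOf_eq_one_iff.1 (Nat.eq_one_of_dvd_coprimes (by norm_num : Nat.Coprime 8 3)
        (orderOf_dvd_of_pow_eq_one h8) (orderOf_dvd_of_pow_eq_one h3))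
    have e : p.1 = q.1 := (inv_mul_eq_one.1 ((injective_iff_map_eq_one f').1 hinj _ h0)).symm
    refine Prod.ext e (Subtype.ext ?_)
    have h' : f' p.1 * (p.2 : SL(2, ZMod 3)) = f' q.1 * (q.2 : SL(2, ZMod 3)) := h
    rw [e] at h'
    exact mul_left_cancel h'
  obtain ⟨⟨p, u⟩, hpu⟩ := hm.2 (f ⟨g, hg⟩)
  refine ⟨p, p.2, ?_⟩
  set x : S.presGrp := (⟨p, S.pres_P p.2⟩ : S.presGrp)⁻¹ * ⟨g, hg⟩ with hx
  have hfx : f x = (u : SL(2, ZMod 3)) := by
    rw [hx, map_mul, map_inv, ← hpu]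
    exact inv_mul_cancel_left _ _
  -- the image of the axis has the coordinates of the axis
  have hwQ := S.le1 P.w_mem
  have hxw : (x : G) * w * (x : G)⁻¹ ∈ S.Q1 := x.2.2.1 w P.w_mem
  obtain ⟨c, hc, e⟩ := P.exists_coords hxw
  have h00 : lam S.z ((x : G) * w * (x : G)⁻¹) r = 1 := by
    have := congrArg (fun m : SL(2, ZMod 3) => m.1 0 0) hfx
    exact this.trans u.2.1
  have h10 : lam S.z w ((x : G) * w * (x : G)⁻¹) = 0 := by
    have := congrArg (fun m : SL(2, ZMod 3) => m.1 1 0) hfx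
    exact this.trans u.2.2
  rw [h00, h10, pw_one, pw_zero, mul_one] at e
  show ⁅(x : G), w⁆ ∈ zpowers S.z
  rw [commutatorElement_def, e, S.core.commute hc hwQ |>.symm, mul_inv_cancel_right]
  exact hc

/-- Elements fixing an axis in each factor commute modulo the core. -/
theorem comm_of_fix {x y w₁ w₂ : G} (hw₁ : w₁ ∈ S.Q1) (hw₂ : w₂ ∈ S.Q2) (hz₁ : w₁ ∉ zpowers S.z)
    (hz₂ : w₂ ∉ zpowers S.z) (hx : Commute x S.z) (hx₁ : ⁅x, w₁⁆ ∈ zpowers S.z)
    (hx₂ : ⁅x, w₂⁆ ∈ zpowers S.z) (hy : Commute y S.z) (hy₁ : ⁅y, w₁⁆ ∈ zpowers S.z)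
    (hy₂ : ⁅y, w₂⁆ ∈ zpowers S.z) : ⁅x, y⁆ ∈ S.Q := by
  have px := S.pres_of_fix hx (Or.inl hw₁) hz₁ hx₁
  have py := S.pres_of_fix hy (Or.inl hw₁) hz₁ hy₁
  have key : ∀ (T : Setup G), ∀ w ∈ T.Q1, w ∉ zpowers T.z → T.Pres x → T.Pres y →
      ⁅x, w⁆ ∈ zpowers T.z → ⁅y, w⁆ ∈ zpowers T.z → ∀ a ∈ T.Q1, ⁅⁅x, y⁆, a⁆ ∈ zpowers T.z := by
    intro T w hw hwz tx ty fx fy
    obtain ⟨r, P⟩ := T.exists_plane₁ hw hwz
    have hM : ∀ g ∈ T.presGrp, Commute g T.z ∧ ∀ q ∈ T.Q1, g * q * g⁻¹ ∈ T.Q1 :=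
      fun g (hg : T.Pres g) => ⟨hg.1, hg.2.1⟩
    obtain ⟨a0, a1⟩ := P.act_fix hM ⟨x, tx⟩ fx
    obtain ⟨b0, b1⟩ := P.act_fix hM ⟨y, ty⟩ fy
    have hc : P.act T.presGrp hM ⁅(⟨x, tx⟩ : T.presGrp), ⟨y, ty⟩⁆ = 1 := by
      rw [map_commutatorElement, commutatorElement_eq_one_iff_mul_comm]
      by_cases h1 : P.act T.presGrp hM ⟨y, ty⟩ = 1
      · rw [h1, mul_one, one_mul]
      · obtain ⟨k, hk⟩ := Local.exists_pow_eq ⟨a0, a1⟩ ⟨b0, b1⟩ h1
        rw [hk, pow_mul_comm']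
    exact (P.act_eq_one hM _).1 hc
  exact S.mem_Q_of_trivial ((S.presGrp.mul_mem (S.presGrp.mul_mem (S.presGrp.mul_mem px py)
      (S.presGrp.inv_mem px)) (S.presGrp.inv_mem py)) : S.Pres ⁅x, y⁆).1
    (key S w₁ hw₁ hz₁ px py hx₁ hy₁) (key S.swap w₂ hw₂ hz₂ (px.swap' S) (py.swap' S) hx₂ hy₂)

/-- The stabiliser of the factors is the product of the quaternion groups and the stabiliser of two axes. -/
theorem exists_decomp {w₁ w₂ : G} (hw₁ : w₁ ∈ S.Q1) (hw₂ : w₂ ∈ S.Q2) (hz₁ : w₁ ∉ zpowers S.z)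
    (hz₂ : w₂ ∉ zpowers S.z) {g : G} (hg : S.Pres g) :
    ∃ p ∈ S.P, ∃ p' ∈ S.P', ∃ x : G, g = p * p' * x ∧ Commute x S.z ∧
      ⁅x, w₁⁆ ∈ zpowers S.z ∧ ⁅x, w₂⁆ ∈ zpowers S.z := by
  obtain ⟨r₁, P₁⟩ := S.exists_plane₁ hw₁ hz₁
  obtain ⟨r₂, P₂⟩ := S.swap.exists_plane₁ hw₂ hz₂
  obtain ⟨p, hp, h1⟩ := S.exists_P_mul P₁ hg
  have hpg : S.Pres (p⁻¹ * g) := S.presGrp.mul_mem (S.presGrp.inv_mem (S.pres_P hp)) hg
  obtain ⟨p', hp', h2⟩ := S.swap.exists_P_mul P₂ (hpg.swap' S)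
  have hp'' : p' ∈ S.P' := hp'
  have hx : Commute (p'⁻¹ * (p⁻¹ * g)) S.z :=
    (S.presGrp.mul_mem (S.presGrp.inv_mem (S.pres_P' hp'')) hpg : S.Pres _).1
  refine ⟨p, hp, p', hp'', p'⁻¹ * (p⁻¹ * g), by group, hx, ?_, h2⟩
  have h := (S.P'_Q1 p'⁻¹ (S.P'.inv_mem hp'') w₁ hw₁)
  have hpz : Commute p'⁻¹ S.z := (S.pres_P' hp'').1.inv_left
  have e : ⁅p'⁻¹ * (p⁻¹ * g), w₁⁆ = p'⁻¹ * ⁅p⁻¹ * g, w₁⁆ * p'⁻¹⁻¹ * ⁅p'⁻¹, w₁⁆ := by
    simp only [commutatorElement_def]; group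
  rw [e, commutatorElement_eq_one_iff_mul_comm.2 h.eq, mul_one, (Pt.fix_Z hpz h1).eq, mul_inv_cancel_right]
  exact h1

end Cfsg.Agent.U62Three.Setup
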