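import Cfsg.Agent.Lib.U62Three.Local.Cent

/-!
The normaliser of the subgroup of order 81 induces isometries, and its action on the quotient of the centraliser by
that subgroup is the sign: trivial exactly on the isometries generated by the translations and the reflection.
-/

set_option autoImplicit false
set_option maxRecDepth 20000
set_option linter.style.haveILetI false
set_option linter.unusedSectionVars false

namespace Cfsg.Agent.U62Three

open Subgroup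
open scoped commutatorElement
open Co2Three (V4 qf bf e0 e1 e2 e3 IsSim isSim_mult IsPoint refl1 pw pw_zero pw_one pw_mem pw_add pw_neg)

/-- The rotation through a straight angle in the plane of the axes. -/
def piM : Matrix (Fin 4) (Fin 4) (ZMod 3) := !![1, 0, 0, 0; 0, -1, 0, 0; 0, 0, -1, 0; 0, 0, 0, 1]

/-- The negative of a rotation through a right angle in that plane. -/
def quartM : Matrix (Fin 4) (Fin 4) (ZMod 3) := -(swapM * r1M)

theorem trM_cancel : ∀ a b : ZMod 3, trM a b * trM (-a) (-b) = 1 ∧ trM (-a) (-b) * trM a b = 1 ∧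
    tr3M a b * tr3M (-a) (-b) = 1 ∧ tr3M (-a) (-b) * tr3M a b = 1 ∧
    trM a b * trM a b * trM a b = 1 ∧ tr3M a b * tr3M a b * tr3M a b = 1 ∧
    r1M * trM a b = trM (-a) b * r1M ∧ r1M * tr3M a b = tr3M (-a) b * r1M := by decide +kernel

theorem plane_word : piM = trM 0 1 * tr3M 1 2 * trM 2 0 * tr3M 1 1 ∧
    quartM = trM 0 1 * tr3M 1 0 * trM 1 1 * tr3M 2 1 ∧ r1M * r1M = 1 ∧
    (∀ v : V4, r1M.mulVec v = refl1 v) ∧ refl1 e1 ≠ e1 := by decide +kernel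

theorem isRot_piM : IsRot piM :=
  plane_word.1 ▸ (((isRot_tr 0 1).mul (isRot_tr3 1 2)).mul (isRot_tr 2 0)).mul (isRot_tr3 1 1)

theorem isRot_quartM : IsRot quartM :=
  plane_word.2.1 ▸ (((isRot_tr 0 1).mul (isRot_tr3 1 0)).mul (isRot_tr 1 1)).mul (isRot_tr3 2 1)

theorem IsRot.exists_inv {M : Matrix (Fin 4) (Fin 4) (ZMod 3)} (h : IsRot M) :
    ∃ N, IsRot N ∧ M * N = 1 ∧ N * M = 1 := by
  induction h using Submonoid.closure_induction with
  | mem A hA =>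
    rcases hA with ⟨p, rfl⟩ | ⟨p, rfl⟩
    · exact ⟨_, isRot_tr _ _, (trM_cancel p.1 p.2).1, (trM_cancel p.1 p.2).2.1⟩
    · exact ⟨_, isRot_tr3 _ _, (trM_cancel p.1 p.2).2.2.1, (trM_cancel p.1 p.2).2.2.2.1⟩
  | one => exact ⟨1, isRot_one, mul_one 1, mul_one 1⟩
  | mul A B _ _ hA hB =>
    obtain ⟨A', hA', a1, a2⟩ := hA
    obtain ⟨B', hB', b1, b2⟩ := hB
    exact ⟨B' * A', hB'.mul hA',
      by rw [mul_assoc, ← mul_assoc B, b1, one_mul, a1],
      by rw [mul_assoc, ← mul_assoc A', a2, one_mul, b2]⟩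

theorem isS6_rot_mul {R M : Matrix (Fin 4) (Fin 4) (ZMod 3)} (hR : IsRot R) (hM : IsS6 M) : IsS6 (R * M) := by
  rcases hM with h | ⟨N, hN, rfl⟩
  · exact Or.inl (hR.mul h)
  · exact Or.inr ⟨R * N, hR.mul hN, (mul_assoc _ _ _).symm⟩

/-- The isometries of the plane of the axes. -/
theorem plane_cases : ∀ p q r s : ZMod 3, qf ![0, p, q, 0] = -1 → qf ![0, r, s, 0] = -1 →
    bf ![0, p, q, 0] ![0, r, s, 0] = 0 →
    let B : Matrix (Fin 4) (Fin 4) (ZMod 3) := !![1, 0, 0, 0; 0, p, r, 0; 0, q, s, 0; 0, 0, 0, 1]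
    (B = 1 ∨ B = piM ∨ B = r1M ∨ B = piM * r1M) ∨
      (-B = quartM ∨ -B = quartM * piM ∨ -B = quartM * r1M ∨ -B = quartM * piM * r1M) := by
  decide +kernel

theorem plane_col : ∀ p q r s : ZMod 3,
    let B : Matrix (Fin 4) (Fin 4) (ZMod 3) := !![1, 0, 0, 0; 0, p, r, 0; 0, q, s, 0; 0, 0, 0, 1]
    B.mulVec e0 = e0 ∧ B.mulVec e1 = ![0, p, q, 0] ∧ B.mulVec e2 = ![0, r, s, 0] ∧ B.mulVec e3 = e3 := by
  decide +kernel

theorem sign_facts : (∀ w : V4, qf w = 0 → bf e0 w = 1 → w = ![w 1 * w 1 + w 2 * w 2, w 1, w 2, 1]) ∧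
    (∀ w : V4, bf w e0 = 0 → bf w e3 = 0 → w = ![0, w 1, w 2, 0]) ∧
    (∀ w : V4, w 3 = 0 → (w 1 = 0 ∨ w 2 = 0) → qf w = 0 ∨ qf w = -1) ∧
    (∀ a b : ZMod 3, (trM (-a) (-b)).mulVec ![a * a + b * b, a, b, 1] = e3) ∧
    bf e1 e0 = 0 ∧ bf e2 e0 = 0 ∧ bf e1 e3 = 0 ∧ bf e2 e3 = 0 ∧ bf e0 e3 = 1 ∧ bf e1 e2 = 0 ∧
    qf e1 = -1 ∧ qf e2 = -1 ∧ qf e0 = 0 ∧ qf e3 = 0 := by decide +kernel

theorem isometry_bf {M : Matrix (Fin 4) (Fin 4) (ZMod 3)} (hq : ∀ v, qf (M.mulVec v) = qf v) (u v : V4) :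
    bf (M.mulVec u) (M.mulVec v) = bf u v := by
  obtain ⟨s, -, hs, hb⟩ := isSim_mult (Or.inl hq : IsSim M)
  have h1 : s = 1 := by
    have h := hs e1
    rw [hq, sign_facts.2.2.2.2.2.2.2.2.2.2.1, mul_neg, mul_one] at h
    exact neg_injective h.symm
  rw [hb, h1, one_mul]

/-- Up to sign every isometry is generated by the translations and the reflection. -/
theorem isS6_or_neg {M : Matrix (Fin 4) (Fin 4) (ZMod 3)} (hq : ∀ v, qf (M.mulVec v) = qf v) :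
    IsS6 M ∨ IsS6 (-M) := by
  obtain ⟨hsing, hperp, -, htr, b10, b20, b13, b23, b03, b12, q1, q2, q0, q3⟩ := sign_facts
  have hv : M.mulVec e0 ≠ 0 := fun h => by
    have := isometry_bf hq e0 e3
    rw [h, b03] at this
    exact absurd this (by simp [bf])
  obtain ⟨R, hR, hR0⟩ := exists_rot_to hv (by rw [hq, q0])
  set N := R * M with hN
  have hNq : ∀ v, qf (N.mulVec v) = qf v := fun v => by rw [hN, ← Matrix.mulVec_mulVec, hR.qf_eq, hq]
  have hN0 : N.mulVec e0 = e0 := by rw [hN, ← Matrix.mulVec_mulVec, hR0]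
  have hw := hsing _ (by rw [hNq, q3]) (by
    have h := isometry_bf hNq e0 e3
    rwa [hN0, b03] at h)
  set a := (N.mulVec e3) 1
  set b := (N.mulVec e3) 2
  set B := trM (-a) (-b) * N with hB
  have hBq : ∀ v, qf (B.mulVec v) = qf v := fun v => by
    rw [hB, ← Matrix.mulVec_mulVec, (trM_mulVec _ _ _).1, hNq]
  have hB0 : B.mulVec e0 = e0 := by rw [hB, ← Matrix.mulVec_mulVec, hN0, (tr_facts _ _ 0).2.2.2.1]
  have hB3 : B.mulVec e3 = e3 := by rw [hB, ← Matrix.mulVec_mulVec, hw, htr]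
  have hcol : ∀ e, bf e e0 = 0 → bf e e3 = 0 → ∃ p q : ZMod 3, B.mulVec e = ![0, p, q, 0] := fun e h0 h3 => by
    refine ⟨_, _, hperp _ ?_ ?_⟩
    · have h := isometry_bf hBq e e0
      rwa [hB0, h0] at h
    · have h := isometry_bf hBq e e3
      rwa [hB3, h3] at h
  obtain ⟨p, q, h1⟩ := hcol e1 b10 b13
  obtain ⟨r, s, h2⟩ := hcol e2 b20 b23
  obtain ⟨c0, c1, c2, c3⟩ := plane_col p q r s
  have hBe : B = !![1, 0, 0, 0; 0, p, r, 0; 0, q, s, 0; 0, 0, 0, 1] :=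
    ext_basis (hB0.trans c0.symm) (h1.trans c1.symm) (h2.trans c2.symm) (hB3.trans c3.symm)
  have hcases := plane_cases p q r s (by rw [← h1, hBq, q1]) (by rw [← h2, hBq, q2])
    (by rw [← h1, ← h2, isometry_bf hBq, b12])
  have hB' : IsS6 B ∨ IsS6 (-B) := by
    rw [hBe]
    rcases hcases with (h | h | h | h) | (h | h | h | h)
    · exact Or.inl (h ▸ Or.inl isRot_one)
    · exact Or.inl (h ▸ Or.inl isRot_piM)
    · exact Or.inl (h ▸ Or.inr ⟨1, isRot_one, (one_mul _).symm⟩)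
    · exact Or.inl (h ▸ Or.inr ⟨_, isRot_piM, rfl⟩)
    · exact Or.inr (h ▸ Or.inl isRot_quartM)
    · exact Or.inr (h ▸ Or.inl (isRot_quartM.mul isRot_piM))
    · exact Or.inr (h ▸ Or.inr ⟨_, isRot_quartM, rfl⟩)
    · exact Or.inr (h ▸ Or.inr ⟨_, isRot_quartM.mul isRot_piM, rfl⟩)
  obtain ⟨R', hR', -, hR'R⟩ := hR.exists_inv
  have e : M = R' * trM a b * B := by
    rw [hB, mul_assoc R', ← mul_assoc (trM a b), (trM_cancel a b).1, one_mul, hN, ← mul_assoc, hR'R, one_mul]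
  refine hB'.imp (fun h => ?_) fun h => ?_
  · rw [e]; exact isS6_rot_mul (hR'.mul (isRot_tr a b)) h
  · rw [e, ← mul_neg]; exact isS6_rot_mul (hR'.mul (isRot_tr a b)) h

variable {G : Type*} [Group G] [Finite G]

/-- An element acting trivially on the quotient of the centraliser. -/
def Plus (el : V4 → G) (g : G) : Prop := ∀ x ∈ centK el, ∃ v, g * x * g⁻¹ = x * el v

namespace Axes

variable {S : Setup G} {el : V4 → G}

theorem el_zero (A : Axes S el) : el 0 = 1 :=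
  mul_eq_left.1 ((A.jd.el_add 0 0).symm.trans (by rw [add_zero]))

theorem exists_surj (A : Axes S el) {g : G} (h : ∀ v, ∃ w, g * el v * g⁻¹ = el w) (w : V4) :
    ∃ v, g * el v * g⁻¹ = el w := by
  choose f hf using h
  have hs : Function.Surjective f := Finite.injective_iff_surjective.1 fun u v e =>
    A.jd.el_inj (mul_left_cancel (mul_right_cancel (show g * el u * g⁻¹ = g * el v * g⁻¹ by rw [hf, hf, e])))
  obtain ⟨v, rfl⟩ := hs w
  exact ⟨v, hf v⟩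

theorem norm_inv (A : Axes S el) {g : G} (h : ∀ v, ∃ w, g * el v * g⁻¹ = el w) (w : V4) :
    ∃ v, g⁻¹ * el w * g⁻¹⁻¹ = el v := by
  obtain ⟨v, hv⟩ := A.exists_surj h w
  exact ⟨v, by rw [← hv]; group⟩

/-- The axes of either factor. -/
theorem Q1_vec (A : Axes S el) {v : V4} (h : el v ∈ S.Q1) : v 3 = 0 ∧ v 2 = 0 := by
  have h3 : v 3 = 0 := (A.jd.Q_J v).1 (S.le1 h)
  refine ⟨h3, by_contra fun hne => A.not_line (v := v 2 • e2) (Or.inr (by simpa [e2] using hne)) ?_⟩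
  refine S.inf12.le ⟨?_, by rw [A.smul]; exact pow_mem A.e2_mem _⟩
  have e : v 2 • e2 = (-(v 0)) • e0 + ((-(v 1)) • e1 + v) :=
    (by decide +kernel : ∀ v : V4, v 3 = 0 → v 2 • e2 = (-(v 0)) • e0 + ((-(v 1)) • e1 + v)) v h3
  rw [e, A.jd.el_add, A.jd.el_add, A.smul _ e1]
  exact mul_mem (zpowers_le.2 S.z_mem1 (A.z_line _)) (mul_mem (pow_mem A.e1_mem _) h)

theorem Q2_vec (A : Axes S el) {v : V4} (h : el v ∈ S.Q2) : v 3 = 0 ∧ v 1 = 0 := by
  have hv : (fun w => el (swapM.mulVec w)) (swapM.mulVec v) ∈ S.swap.Q1 := by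
    show el (swapM.mulVec (swapM.mulVec v)) ∈ S.Q2
    rwa [(swap_vec v).2.2]
  have h' := A.swap.Q1_vec hv
  exact ⟨(A.jd.Q_J v).1 (S.le2 h),
    (by decide +kernel : ∀ v : V4, (swapM.mulVec v) 2 = v 1) v ▸ h'.2⟩

/-- The normaliser induces isometries. -/
theorem norm_iso (A : Axes S el) (g : G) (hg : ∀ v, ∃ w, g * el v * g⁻¹ = el w) :
    ∃ M : Matrix (Fin 4) (Fin 4) (ZMod 3), (∀ v, qf (M.mulVec v) = qf v) ∧
      ∀ v, g * el v * g⁻¹ = el (M.mulVec v) := by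
  obtain ⟨M, hM, hMv⟩ := A.jd.norm_sim g hg
  obtain ⟨μ, hμ, hMq, -⟩ := isSim_mult hM
  refine ⟨M, fun v => ?_, hMv⟩
  suffices μ = 1 by rw [hMq, this, one_mul]
  obtain ⟨-, -, haxis, -, -, -, -, -, -, -, q1, -, q0, -⟩ := sign_facts
  have hv : M.mulVec e0 ≠ 0 := fun h => by
    have := hMv e0
    rw [h, A.el_zero, A.z_eq] at this
    exact A.pt.z_ne (conj_eq_one_iff.1 this)
  obtain ⟨R, hR, hR0⟩ := exists_rot_to hv (by rw [hMq, q0, mul_zero])
  obtain ⟨r, hr⟩ := A.jd.rot R hR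
  have hrv : ∀ v, r * g * el v * (r * g)⁻¹ = el (R.mulVec (M.mulVec v)) := fun v => by
    rw [← hr, ← hMv]; group
  have hz : Commute (r * g) S.z := mul_inv_eq_iff_eq_mul.1 (by rw [← A.z_eq, hrv, hR0])
  have hmem : el (R.mulVec (M.mulVec e1)) ∈ S.Q1 ∨ el (R.mulVec (M.mulVec e1)) ∈ S.Q2 := by
    rw [← hrv]
    exact (S.perm _ (S.conj_z hz)).imp (fun h => h.1 _ A.e1_mem) fun h => h.1 _ A.e1_mem
  have h := hmem.elim (fun h => haxis _ (A.Q1_vec h).1 (Or.inr (A.Q1_vec h).2))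
    fun h => haxis _ (A.Q2_vec h).1 (Or.inl (A.Q2_vec h).2)
  rw [hR.qf_eq, hMq, q1] at h
  rcases hμ with rfl | rfl
  · rfl
  · exact absurd h (by decide)

/-- Coordinates of the centraliser of order 243 by a representative of the quotient. -/
theorem exists_rep (A : Axes S el) (hK : CentHyp S) (h243 : Nat.card (centK el) = 243) :
    ∃ x₀ ∈ centK el, (∀ v, x₀ ≠ el v) ∧ (∀ v, x₀ * x₀ ≠ el v) ∧
      ∀ x ∈ centK el, ∃ i : ZMod 3, ∃ v, x = pw x₀ i * el v := by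
  obtain ⟨x₀, hx₀, hne⟩ : ∃ x₀ ∈ centK el, ∀ v, x₀ ≠ el v := by
    by_contra hno
    push Not at hno
    choose f hf using hno
    have := Nat.card_le_card_of_injective (fun x : centK el => f x x.2) fun x y e =>
      Subtype.ext ((hf x x.2).trans ((congrArg el e).trans (hf y y.2).symm))
    rw [h243] at this
    simp at this
  have h3 : x₀ ^ 3 = 1 := A.K_exp hK hx₀
  have h2 : ∀ v, x₀ * x₀ ≠ el v := fun v h => hne (-v) (by
    rw [A.neg, ← h, show (x₀ * x₀)⁻¹ = x₀ from inv_eq_of_mul_eq_one_left (by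
      rw [← h3, pow_succ, pow_two, mul_assoc])])
  refine ⟨x₀, hx₀, hne, h2, fun x hx => ?_⟩
  let f : ZMod 3 × V4 → centK el := fun p => ⟨pw x₀ p.1 * el p.2, mul_mem (pw_mem hx₀ _) (A.el_mem_K _)⟩
  have hf : Function.Bijective f := by
    refine (Nat.bijective_iff_injective_and_card f).2 ⟨fun p q h => ?_, by rw [h243]; simp⟩
    have h' : pw x₀ p.1 * el p.2 = pw x₀ q.1 * el q.2 := congrArg Subtype.val h
    have e : pw x₀ (-q.1 + p.1) = el (q.2 - p.2) := by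
      rw [pw_add h3, pw_neg h3, sub_eq_add_neg, A.jd.el_add, A.neg, inv_mul_eq_iff_eq_mul, ← mul_assoc, ← h',
        mul_inv_cancel_right]
    have hi : p.1 = q.1 := by
      by_contra hi
      rcases (by decide : ∀ i : ZMod 3, i = 0 ∨ i = 1 ∨ i = 1 + 1) (-q.1 + p.1) with h0 | h0 | h0
      · exact hi (by rwa [neg_add_eq_zero, eq_comm] at h0)
      · exact hne _ (by rw [← pw_one x₀, ← h0, e])
      · exact h2 (q.2 - p.2) (by rw [← e, h0, pw_add h3, pw_one])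
    exact Prod.ext hi (A.jd.el_inj (mul_left_cancel (hi ▸ h' : pw x₀ q.1 * el p.2 = _)))
  obtain ⟨⟨i, v⟩, hiv⟩ := hf.2 ⟨x, hx⟩
  exact ⟨i, v, (congrArg Subtype.val hiv).symm⟩

theorem plus_mul (A : Axes S el) {g h : G} (hg : ∀ v, ∃ w, g * el v * g⁻¹ = el w) (pg : Plus el g)
    (ph : Plus el h) : Plus el (g * h) := by
  intro x hx
  obtain ⟨v, hv⟩ := ph x hx
  obtain ⟨u, hu⟩ := pg x hx
  obtain ⟨w, hw⟩ := hg v
  refine ⟨u + w, ?_⟩
  calc g * h * x * (g * h)⁻¹ = g * (h * x * h⁻¹) * g⁻¹ := by group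
    _ = (g * x * g⁻¹) * (g * el v * g⁻¹) := by rw [hv]; group
    _ = x * el (u + w) := by rw [hu, hw, A.jd.el_add, mul_assoc]

theorem plus_inv (A : Axes S el) {g : G} (hg : ∀ v, ∃ w, g * el v * g⁻¹ = el w) (pg : Plus el g) :
    Plus el g⁻¹ := by
  intro x hx
  obtain ⟨v, hv⟩ := pg _ (A.normK (A.norm_inv hg) hx)
  refine ⟨-v, ?_⟩
  rw [show g * (g⁻¹ * x * g⁻¹⁻¹) * g⁻¹ = x by group] at hv
  rw [A.neg]
  calc g⁻¹ * x * g⁻¹⁻¹ = g⁻¹ * x * g⁻¹⁻¹ * el v * (el v)⁻¹ := (mul_inv_cancel_right _ _).symm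
    _ = x * (el v)⁻¹ := by rw [← hv]

/-- Elements inducing one transformation act alike. -/
theorem conj_eq_of_same (A : Axes S el) (hK : CentHyp S) {g h : G}
    (hgh : ∀ v, g * el v * g⁻¹ = h * el v * h⁻¹) {x : G} (hx : x ∈ centK el) :
    g * x * g⁻¹ = h * x * h⁻¹ := by
  have hk : h⁻¹ * g ∈ centK el := mem_centK.2 fun v => mul_inv_eq_iff_eq_mul.1 (by
    rw [show h⁻¹ * g * el v * (h⁻¹ * g)⁻¹ = h⁻¹ * (g * el v * g⁻¹) * h by group, hgh]; group)
  calc g * x * g⁻¹ = h * ((h⁻¹ * g) * x * (h⁻¹ * g)⁻¹) * h⁻¹ := by group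
    _ = h * x * h⁻¹ := by rw [(A.K_comm hK hk hx).eq, mul_inv_cancel_right]

theorem plus_of_same (A : Axes S el) (hK : CentHyp S) {g h : G}
    (hgh : ∀ v, g * el v * g⁻¹ = h * el v * h⁻¹) (ph : Plus el h) : Plus el g := fun x hx => by
  obtain ⟨v, hv⟩ := ph x hx
  exact ⟨v, (A.conj_eq_of_same hK hgh hx).trans hv⟩

/-- Every element either fixes or inverts the quotient. -/
theorem plus_or_minus (A : Axes S el) (hK : CentHyp S) (h243 : Nat.card (centK el) = 243) {g : G}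
    (hg : ∀ v, ∃ w, g * el v * g⁻¹ = el w) :
    Plus el g ∨ ∀ x ∈ centK el, ∃ v, g * x * g⁻¹ * x = el v := by
  obtain ⟨x₀, hx₀, hne, -, hrep⟩ := A.exists_rep hK h243
  have h3 : x₀ ^ 3 = 1 := A.K_exp hK hx₀
  obtain ⟨j, w, hw⟩ := hrep _ (A.normK hg hx₀)
  have hj : j ≠ 0 := fun h => by
    obtain ⟨u, hu⟩ := A.exists_surj hg w
    rw [h, pw_zero, one_mul, ← hu] at hw
    exact hne u (mul_left_cancel (mul_right_cancel hw))
  have hcon : ∀ x ∈ centK el, ∃ i : ZMod 3, ∃ u v, x = pw x₀ i * el v ∧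
      g * x * g⁻¹ = pw x₀ (i * j) * el u := by
    intro x hx
    obtain ⟨i, v, rfl⟩ := hrep x hx
    obtain ⟨u, hu⟩ := hg v
    refine ⟨i, i • w + u, v, rfl, ?_⟩
    have hc : Commute (pw x₀ j) (el w) := A.K_comm hK (pw_mem hx₀ _) (A.el_mem_K _)
    calc g * (pw x₀ i * el v) * g⁻¹ = (g * x₀ * g⁻¹) ^ i.val * (g * el v * g⁻¹) := by
          rw [conj_pow, pw]; group
      _ = pw x₀ (i * j) * el (i • w + u) := by
        rw [hw, hu, hc.mul_pow, A.jd.el_add, A.smul, ← mul_assoc]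
        congr 2
        rw [pw, pw, ← pow_mul, pow_eq_pow_mod _ h3, mul_comm j.val, ← ZMod.val_mul]
  rcases (by decide : ∀ j : ZMod 3, j ≠ 0 → j = 1 ∨ j = -1) j hj with rfl | rfl
  · refine Or.inl fun x hx => ?_
    obtain ⟨i, u, v, e, he⟩ := hcon x hx
    refine ⟨u - v, ?_⟩
    rw [he, mul_one, e, mul_assoc, ← A.jd.el_add, add_sub_cancel]
  · refine Or.inr fun x hx => ?_
    obtain ⟨i, u, v, e, he⟩ := hcon x hx
    refine ⟨u + v, ?_⟩
    have hc : Commute (el u) (pw x₀ i) := A.K_comm hK (A.el_mem_K _) (pw_mem hx₀ _)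
    rw [he, e, A.jd.el_add, mul_neg_one, ← mul_assoc, mul_assoc (pw x₀ (-i)), hc.eq, pw_neg h3,
      inv_mul_cancel_left]

/-- An element of order three modulo the centraliser fixes the quotient. -/
theorem plus_of_cube (A : Axes S el) (hK : CentHyp S) (h243 : Nat.card (centK el) = 243) {g : G}
    (hg : ∀ v, ∃ w, g * el v * g⁻¹ = el w) (h3 : g * g * g ∈ centK el) : Plus el g := by
  refine (A.plus_or_minus hK h243 hg).resolve_right fun hm => ?_
  obtain ⟨x₀, hx₀, -, h2, -⟩ := A.exists_rep hK h243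
  -- three inversions are one
  have step : ∀ x ∈ centK el, ∃ v, g * x * g⁻¹ = x⁻¹ * el v := fun x hx => by
    obtain ⟨v, hv⟩ := hm x hx
    refine ⟨v, ?_⟩
    rw [← hv, (A.K_comm hK (A.normK hg hx) hx).eq, inv_mul_cancel_left]
  obtain ⟨v, hv⟩ := step x₀ hx₀
  obtain ⟨u, hu⟩ := hg v
  obtain ⟨r, hr⟩ := step x₀⁻¹ (inv_mem hx₀)
  obtain ⟨w, hw⟩ := hg (r + u)
  have e2 : g * g * x₀ * (g * g)⁻¹ = x₀ * el (r + u) := by
    calc g * g * x₀ * (g * g)⁻¹ = (g * x₀⁻¹ * g⁻¹) * (g * el v * g⁻¹) := by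
          rw [show g * g * x₀ * (g * g)⁻¹ = g * (g * x₀ * g⁻¹) * g⁻¹ by group, hv]; group
      _ = x₀ * el (r + u) := by rw [hr, hu, inv_inv, A.jd.el_add, mul_assoc]
  have e3 : g * g * g * x₀ * (g * g * g)⁻¹ = x₀⁻¹ * el (v + w) := by
    calc g * g * g * x₀ * (g * g * g)⁻¹ = g * (g * g * x₀ * (g * g)⁻¹) * g⁻¹ := by group
      _ = (g * x₀ * g⁻¹) * (g * el (r + u) * g⁻¹) := by rw [e2]; group
      _ = x₀⁻¹ * el (v + w) := by rw [hv, hw, A.jd.el_add, mul_assoc]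
  rw [(A.K_comm hK h3 hx₀).eq, mul_inv_cancel_right] at e3
  exact h2 (v + w) (by conv_lhs => arg 2; rw [e3]
                       rw [mul_inv_cancel_left])

theorem rot_plus (A : Axes S el) (hK : CentHyp S) (h243 : Nat.card (centK el) = 243)
    {M : Matrix (Fin 4) (Fin 4) (ZMod 3)} (hM : IsRot M) :
    ∃ g, (∀ v, g * el v * g⁻¹ = el (M.mulVec v)) ∧ Plus el g := by
  induction hM using Submonoid.closure_induction with
  | mem X hX =>
    have hX3 : X * X * X = 1 := by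
      rcases hX with ⟨p, rfl⟩ | ⟨p, rfl⟩
      · exact (trM_cancel p.1 p.2).2.2.2.2.1
      · exact (trM_cancel p.1 p.2).2.2.2.2.2.1
    obtain ⟨g, hg⟩ := A.jd.rot X (Submonoid.subset_closure hX)
    refine ⟨g, hg, A.plus_of_cube hK h243 (fun v => ⟨_, hg v⟩) (mem_centK.2 fun v => mul_inv_eq_iff_eq_mul.1 ?_)⟩
    calc g * g * g * el v * (g * g * g)⁻¹ = g * (g * (g * el v * g⁻¹) * g⁻¹) * g⁻¹ := by group
      _ = el v := by
        rw [hg, hg, hg, Matrix.mulVec_mulVec, Matrix.mulVec_mulVec, hX3, Matrix.one_mulVec]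
  | one => exact ⟨1, fun v => by simp, fun x hx => ⟨0, by simp [A.el_zero]⟩⟩
  | mul X Y _ _ hX hY =>
    obtain ⟨g, hg, pg⟩ := hX
    obtain ⟨h, hh, ph⟩ := hY
    refine ⟨g * h, fun v => ?_, A.plus_mul (fun v => ⟨_, hg v⟩) pg ph⟩
    rw [← Matrix.mulVec_mulVec, ← hg, ← hh]
    group

theorem t_plus (A : Axes S el) (ht : ∀ v, S.t * el v * S.t⁻¹ = el (refl1 v)) : Plus el S.t := by
  intro x hx
  have hn : S.t * x * S.t⁻¹ ∈ centK el := A.normK (fun v => ⟨_, ht v⟩) hx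
  obtain ⟨v, -, hv⟩ := A.K_Q (x := x⁻¹ * (S.t * x * S.t⁻¹)) (mul_mem (inv_mem hx) hn) (by
    have h := t_comm_mod (A.K_pres (inv_mem hx))
    rwa [commutatorElement_def, inv_inv, mul_assoc, mul_assoc, ← mul_assoc S.t] at h)
  exact ⟨v, by rw [← hv, mul_inv_cancel_left]⟩

theorem s6_plus (A : Axes S el) (hK : CentHyp S) (ht : ∀ v, S.t * el v * S.t⁻¹ = el (refl1 v))
    (h243 : Nat.card (centK el) = 243) {M : Matrix (Fin 4) (Fin 4) (ZMod 3)} (hM : IsS6 M) :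
    ∃ g, (∀ v, g * el v * g⁻¹ = el (M.mulVec v)) ∧ Plus el g := by
  rcases hM with h | ⟨R, hR, rfl⟩
  · exact A.rot_plus hK h243 h
  obtain ⟨g, hg, pg⟩ := A.rot_plus hK h243 hR
  refine ⟨g * S.t, fun v => ?_, A.plus_mul (fun v => ⟨_, hg v⟩) pg (A.t_plus ht)⟩
  rw [← Matrix.mulVec_mulVec, plane_word.2.2.2.1, ← hg, ← ht]
  group

/-- No element inverting the subgroup fixes the quotient. -/
theorem not_plus_neg (A : Axes S el) (hK : CentHyp S) (h243 : Nat.card (centK el) = 243) {g : G}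
    (hg : ∀ v, g * el v * g⁻¹ = el (-v)) (pg : Plus el g) : False := by
  obtain ⟨x₀, hx₀, hne, -, -⟩ := A.exists_rep hK h243
  obtain ⟨v, hv⟩ := pg x₀ hx₀
  set y := x₀ * el (-v) with hy
  have hyK : y ∈ centK el := mul_mem hx₀ (A.el_mem_K _)
  have hgy : g * y * g⁻¹ = y := by
    calc g * y * g⁻¹ = (g * x₀ * g⁻¹) * (g * el (-v) * g⁻¹) := by rw [hy]; group
      _ = x₀ * el (-v) := by
        rw [hv, hg, mul_assoc, ← A.jd.el_add,
          (by decide +kernel : ∀ v : V4, v + - -v = -v) v]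
  have hQ : ∀ q ∈ S.Q, Commute y q := fun q hq => by
    have hqz : Commute q S.z := A.pt.commute_z hq
    have hqc : ⁅q, el e3⁆ ∈ S.Q := by
      rw [commutatorElement_def, show q * el e3 * q⁻¹ * (el e3)⁻¹ = q * (el e3 * q⁻¹ * (el e3)⁻¹) by group]
      exact mul_mem hq (S.normal' A.e3_com (inv_mem hq))
    obtain ⟨a, b, -, hN⟩ := A.exists_mat hqz (A.pt.core.comm q hq _ ((A.jd.Q_J e1).2 (by decide)))
      (A.pt.core.comm q hq _ ((A.jd.Q_J e2).2 (by decide))) hqc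
    set u := q⁻¹ * g * q with hu
    have huv : ∀ w, u * el w * u⁻¹ = g * el w * g⁻¹ := fun w => by
      calc u * el w * u⁻¹ = q⁻¹ * (g * (q * el w * q⁻¹) * g⁻¹) * q := by rw [hu]; group
        _ = q⁻¹ * el ((trM a b).mulVec (-w)) * q := by rw [hN, hg, Matrix.mulVec_neg]
        _ = el (-w) := by rw [← hN]; group
        _ = g * el w * g⁻¹ := (hg w).symm
    have hfix : g * (q * y * q⁻¹) * g⁻¹ = q * y * q⁻¹ := by
      calc g * (q * y * q⁻¹) * g⁻¹ = q * (u * y * u⁻¹) * q⁻¹ := by rw [hu]; group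
        _ = q * y * q⁻¹ := by rw [A.conj_eq_of_same hK huv hyK, hgy]
    have hqK : q * y * q⁻¹ ∈ centK el := A.normK (fun w => ⟨_, hN w⟩) hyK
    obtain ⟨w, -, hw⟩ := A.K_Q (mul_mem hqK (inv_mem hyK)) (by
      rw [show q * y * q⁻¹ * y⁻¹ = q * (y * q⁻¹ * y⁻¹) by group]
      exact mul_mem hq (S.normal' (A.K_com_z hyK) (inv_mem hq)))
    have hw0 : el (-w) = el w := by
      rw [← hg, ← hw, show g * (q * y * q⁻¹ * y⁻¹) * g⁻¹ = g * (q * y * q⁻¹) * g⁻¹ * (g * y * g⁻¹)⁻¹ by group,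
        hfix, hgy]
    rw [(by decide +kernel : ∀ w : V4, -w = w → w = 0) w (A.jd.el_inj hw0), A.el_zero, mul_inv_eq_one] at hw
    exact (mul_inv_eq_iff_eq_mul.1 hw).symm
  obtain ⟨w, -, hw⟩ := A.K_Q hyK (S.cq y (A.K_com_z hyK) hQ)
  refine hne (w + v) ?_
  rw [A.jd.el_add, ← hw, hy, A.neg, inv_mul_cancel_right]

/-- The sign at the quotient. -/
theorem sign (A : Axes S el) (hK : CentHyp S) (ht : ∀ v, S.t * el v * S.t⁻¹ = el (refl1 v))
    (h243 : Nat.card (centK el) = 243) (g : G) (M : Matrix (Fin 4) (Fin 4) (ZMod 3))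
    (hg : ∀ v, g * el v * g⁻¹ = el (M.mulVec v)) :
    (IsS6 M ∧ ∀ x ∈ centK el, ∃ v, g * x * g⁻¹ = x * el v) ∨
      (¬ IsS6 M ∧ ∀ x ∈ centK el, ∃ v, g * x * g⁻¹ * x = el v) := by
  by_cases hM : IsS6 M
  · obtain ⟨h, hh, ph⟩ := A.s6_plus hK ht h243 hM
    exact Or.inl ⟨hM, A.plus_of_same hK (fun v => (hg v).trans (hh v).symm) ph⟩
  refine Or.inr ⟨hM, (A.plus_or_minus hK h243 fun v => ⟨_, hg v⟩).resolve_left fun pg => ?_⟩
  obtain ⟨N, hNq, hN⟩ := A.norm_iso g fun v => ⟨_, hg v⟩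
  have hq : ∀ v, qf (M.mulVec v) = qf v := fun v => by
    rw [A.jd.el_inj ((hg v).symm.trans (hN v)), hNq]
  obtain ⟨h, hh, ph⟩ := A.s6_plus hK ht h243 ((isS6_or_neg hq).resolve_left hM)
  have hn : ∀ v, ∃ w, h * el v * h⁻¹ = el w := fun v => ⟨_, hh v⟩
  refine A.not_plus_neg hK h243 (g := h⁻¹ * g) (fun v => ?_) (A.plus_mul (A.norm_inv hn) (A.plus_inv hn ph) pg)
  have e : h * el (-v) * h⁻¹ = el (M.mulVec v) := by
    rw [hh, Matrix.neg_mulVec, Matrix.mulVec_neg, neg_neg]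
  calc h⁻¹ * g * el v * (h⁻¹ * g)⁻¹ = h⁻¹ * (g * el v * g⁻¹) * h := by group
    _ = el (-v) := by rw [hg, ← e]; group

end Axes

end Cfsg.Agent.U62Three
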